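import Cfsg.Agent.R2.T1.N6R.Twi_m3
import Cfsg.Agent.R2.T1.N6B.Eig
import Cfsg.Agent.R2.PX.W.Cl_m3
import Cfsg.Agent.R2.T1.Inf.Dia
import Cfsg.Agent.R2.T1.Five.TwoE_m3
import Cfsg.Agent.R2.T1.N7.Sc7_m3
import Cfsg.Agent.R2.T1.N6D.Out_m3
import Cfsg.Agent.R2.PX.Conf_m3
import Cfsg.Agent.R2.T1.Odd.Nrm
import Cfsg.Agent.R2.T1.Odd.El
import Cfsg.Agent.R2.T1.E5.Tor_m3
import Cfsg.Agent.R2.T1.Inf.Cnt_m3
import Cfsg.Agent.FastGrp
import Cfsg.Agent.Prune
set_option linter.all false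

section
prune_inst 0x7fbefdffebf8afffffff7e7faedefffdfbb9bfffe6dff9cb7fe0e1ff2bdf6b08c9c56b858bea10fe1eb6c21410f87b43ffffffffea6ffc7ffffdfff41ffbffcfedf6b50851d588340fb86ffe83f0778e7f3fffffffffffffffffffffffffffbeffffffffffff

-- part: R2/T1/N6B/Dsc
section
prune_inst 0x4100001007500000008180510100000406000000000030800c1c0040201096062204786011e7012041286885068080000000000000020000000000c004000010010821200a248a104600010008080000000000000000000000000000000000000000000000
set_option linter.all false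
open scoped Cfsg.Agent.FastGrp

/-!
# Highest weight vectors on the 56-dimensional module (helper22)

* `exists_desc` : semilinear maps `V(K) → V(F)`;
* `exists_hw_V` : highest weight vectors of `SL(2, 9)` on `V(F)`;
* `hw_normal` : elements normalizing the image of `SL(2, 9)` and commuting with a torus element preserve them.
-/

set_option autoImplicit false
set_option maxRecDepth 100000
set_option linter.unusedSectionVars false

namespace Cfsg.Agent.R2.T1.N6B

open Cfsg Cfsg.Lie Module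
open Cfsg.Agent.H943.E7V.Block (D1 rho)
open Cfsg.Agent.H952.F4 (ev es MaxAlt)
open Cfsg.Agent.R2.T1
open Matrix (SpecialLinearGroup)
open Cfsg.Agent.H943.SL2Rel Cfsg.Agent.H943.SL2Mod Cfsg.Agent.H943.RepAdd Cfsg.Agent.R2.H28.SL2

universe u v w

section
variable {F : Type u} {K : Type v} [Field F] [Field K] (f : F →+* K)

/-- extension of scalars on vectors -/
def exv : (D1 → F) →+ (D1 → K) where
  toFun x i := f (x i)
  map_zero' := funext fun _ => map_zero f
  map_add' x y := funext fun i => map_add f (x i) (y i)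

theorem exv_V (g : Gh F) (x : D1 → F) : exv f (V F g x) = V K (emb f g) (exv f x) := (V_emb f g x).symm

theorem exv_smul (r : F) (x : D1 → F) : exv f (r • x) = f r • exv f x := funext fun i => map_mul f r (x i)

theorem exv_inj : Function.Injective (exv f) := fun _ _ h => funext fun i => f.injective (congrFun h i)

/-- **descent of vectors** -/
theorem exists_desc {y : D1 → K} (hy : y ≠ 0) : ∃ T : (D1 → K) →+ (D1 → F),
    (∀ g x, T (V K (emb f g) x) = V F g (T x)) ∧ (∀ (r : F) x, T (f r • x) = r • T x) ∧ T y ≠ 0 := by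
  letI : Algebra F K := f.toAlgebra
  have hsm : ∀ (r : F) (t : K), r • t = f r * t := fun r t => Algebra.smul_def r t
  obtain ⟨i, hi⟩ : ∃ i, y i ≠ 0 := by
    by_contra hcon
    push Not at hcon
    exact hy (funext hcon)
  obtain ⟨l, hl⟩ : ∃ l : Module.Dual F K, l (y i) ≠ 0 := by
    by_contra hcon
    push Not at hcon
    exact hi ((Module.forall_dual_apply_eq_zero_iff F (y i)).1 hcon)
  refine ⟨{ toFun := fun x i => l (x i), map_zero' := funext fun _ => map_zero l,
            map_add' := fun x y => funext fun i => map_add l (x i) (y i) }, fun g x => ?_, fun r x => ?_, fun h0 => ?_⟩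
  · funext j
    show l (V K (emb f g) x j) = V F g (fun i => l (x i)) j
    rw [V_apply, V_apply, rho_emb, Matrix.mulVec, Matrix.mulVec, dotProduct, dotProduct, map_sum]
    refine Finset.sum_congr rfl fun k _ => ?_
    rw [Matrix.map_apply, ← hsm, map_smul, smul_eq_mul]
  · funext j
    show l (f r * x j) = r * l (x j)
    rw [← hsm, map_smul, smul_eq_mul]
  · exact hl (congrFun h0 i)

end

section
variable {F : Type u} [Field F] {E : Type} [Field E] [Fintype E] [DecidableEq E] [CharP E 3]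

/-- `h (-1) = -1` -/
theorem h_neg_one : (h (-1) : _root_.Matrix.SpecialLinearGroup (Fin 2) E) = -1 := by
  apply Subtype.ext
  show !![((-1 : Eˣ) : E), 0; 0, ((-1 : Eˣ) : E)⁻¹] = -1
  rw [Matrix.one_fin_two]
  ext i j
  (revert i j; simp only [inv_neg, _root_.Fin.forall_fin_succ, _root_.Units.val_neg, _root_.Units.val_one, _root_.inv_one, _root_.Matrix.of_apply, _root_.Matrix.cons_val', _root_.Matrix.cons_val_fin_one, _root_.Matrix.neg_apply, Fin.isValue, _root_.Matrix.cons_val_zero, _root_.Matrix.cons_val_succ, _root_.forall_const, _root_.neg_zero, _root_.and_self, _root_.implies_true])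

/-- the representation of `SL(2, 9)` -/
noncomputable def rF (σ : _root_.Matrix.SpecialLinearGroup (Fin 2) E →* Gh F) : Representation F (_root_.Matrix.SpecialLinearGroup (Fin 2) E) (D1 → F) :=
  MonoidHom.comp (V F) σ

theorem rF_apply (σ : _root_.Matrix.SpecialLinearGroup (Fin 2) E →* Gh F) (g : _root_.Matrix.SpecialLinearGroup (Fin 2) E) (x : D1 → F) :
    rF σ g x = V F (σ g) x := rfl

theorem two_ne_of_three [CharP F 3] : (2 : F) ≠ 0 := by
  intro h0
  have h1 : ((2 : ℕ) : F) = 0 := by exact_mod_cast h0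
  rw [CharP.cast_eq_zero_iff F 3] at h1
  omega

/-- **highest weight vectors exist** -/
theorem exists_hw_V [CharP F 3] (ι : E →+* F) (hE : Fintype.card E = 3 ^ 2) {σ : _root_.Matrix.SpecialLinearGroup (Fin 2) E →* Gh F}
    (hσ : V F (σ (-1)) = -1) : ∃ c, (c = 1 ∨ c = 3) ∧ ∃ x : D1 → F, x ≠ 0 ∧ IsHw ι (rF σ) c x := by
  classical
  set K := AlgebraicClosure F
  set f := algebraMap F K
  have hch : CharP K 3 := charP_of_injective_algebraMap f.injective 3
  have h2 : (2 : F) ≠ 0 := two_ne_of_three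
  have hm : ∀ x, rF ((emb f).comp σ) (h (-1)) x = -x := by
    intro x
    rw [h_neg_one, rF_apply]
    show V K (emb f (σ (-1))) x = -x
    rw [emb_neg f h2 hσ]
    rfl
  have D : Dul (rF ((emb f).comp σ)) (rF ((emb f).comp σ)) (sf K) :=
    ⟨fun g x y => sf_V _ x y, fun x hx => sf_nondeg' hx, fun y hy => sf_nondeg hy⟩
  obtain ⟨c, hc, hs⟩ := exists_small (f.comp ι) hE hm D (by rw [finrank_V]; norm_num)
  obtain ⟨y, hy0, hy⟩ := exists_hw_soc (f.comp ι) hE hc hs
  obtain ⟨T, hT1, hT2, hT3⟩ := exists_desc f hy0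
  exact ⟨c, hc, T y, hT3, hy.map T (fun g x => (by exact hT1 (σ g) x)) fun a x => (hT2 (ι a) x :)⟩

/-- **normalizing elements** -/
theorem hw_normal [CharP F 3] (ι : E →+* F) (hE : Fintype.card E = 3 ^ 2) {σ : _root_.Matrix.SpecialLinearGroup (Fin 2) E →* Gh F}
    (hσ : V F (σ (-1)) = -1) {c : ℕ} (hc : c = 1 ∨ c = 3) {a₀ : Eˣ} (ha : ∀ a : Eˣ, a ∈ Subgroup.zpowers a₀) {g₀ : Gh F}
    (hn : ∀ s, ∃ s', σ s * g₀ = g₀ * σ s') (hg : g₀ * σ (h a₀) = σ (h a₀) * g₀) {x : D1 → F}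
    (hx : IsHw ι (rF σ) c x) : IsHw ι (rF σ) c (V F g₀ x) := by
  classical
  by_cases hx0 : x = 0
  · rw [hx0, map_zero]
    rw [hx0] at hx
    exact hx
  set K := AlgebraicClosure F
  set f := algebraMap F K
  have hch : CharP K 3 := charP_of_injective_algebraMap f.injective 3
  have h2 : (2 : F) ≠ 0 := two_ne_of_three
  obtain ⟨g₁, hg₁⟩ : ∃ g₁, g₁ = emb f g₀ := ⟨_, rfl⟩
  have hm : ∀ x, rF ((emb f).comp σ) (h (-1)) x = -x := by
    intro x
    rw [h_neg_one, rF_apply]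
    show V K (emb f (σ (-1))) x = -x
    rw [emb_neg f h2 hσ]
    rfl
  have hxK : IsHw (f.comp ι) (rF ((emb f).comp σ)) c (exv f x) :=
    hx.map (exv f) (fun g x => by exact exv_V f (σ g) x) fun a x => (exv_smul f (ι a) x :)
  have hxK0 : exv f x ≠ 0 := fun h0 => hx0 (exv_inj f (by rw [h0, map_zero]))
  obtain ⟨W, hW, hxW, hfr, -⟩ := hxK.plane (f.comp ι) hE hc hxK0
  have hn' : ∀ s, ∃ s', emb f (σ s) * g₁ = g₁ * emb f (σ s') := by
    intro s
    obtain ⟨s', hs'⟩ := hn s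
    exact ⟨s', by rw [hg₁, ← map_mul, hs', map_mul]⟩
  have hg' : g₁ * emb f (σ (h a₀)) = emb f (σ (h a₀)) * g₁ := by
    rw [hg₁, ← map_mul, hg, map_mul]
  have hinj : Function.Injective (V K g₁) := by
    intro v w hvw
    have h1 := congrArg (V K g₁⁻¹) hvw
    rwa [V_inv, V_inv] at h1
  have hW' : ∀ g, ∀ y ∈ W.map (V K g₁), rF ((emb f).comp σ) g y ∈ W.map (V K g₁) := by
    rintro g _ ⟨w, hw, rfl⟩
    obtain ⟨s', hs'⟩ := hn' g
    refine ⟨rF ((emb f).comp σ) s' w, hW s' w hw, ?_⟩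
    show V K g₁ (V K (emb f (σ s')) w) = V K (emb f (σ g)) (V K g₁ w)
    rw [← V_mul, ← V_mul, hs']
  have hfr' : Module.finrank K (W.map (V K g₁)) = 2 := by
    rw [← hfr]
    exact (Submodule.equivMapOfInjective (V K g₁) hinj W).finrank_eq.symm
  -- the second vector
  have hy : rF ((emb f).comp σ) (h a₀) (rF ((emb f).comp σ) w (exv f x)) =
      ((f.comp ι) (a₀ : E) ^ c)⁻¹ • rF ((emb f).comp σ) w (exv f x) := by
    have h3 := hxK.fh a₀⁻¹
    rw [← Module.End.mul_apply, ← map_mul, h_w, map_mul, Module.End.mul_apply, h3, map_smul, Units.val_inv_eq_inv_val,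
      map_inv₀, inv_pow]
  have hres := IsHw.of_plane (f.comp ι) hE hc hm hW' hfr' ha (x := V K g₁ (exv f x))
    (y := V K g₁ (rF ((emb f).comp σ) w (exv f x))) ⟨_, hxW, rfl⟩ ⟨_, hW w _ hxW, rfl⟩
    (fun h0 => hxK0 (hinj (by rw [h0, map_zero])))
    (fun h0 => by
      have h4 : rF ((emb f).comp σ) w (exv f x) = 0 := hinj (by rw [h0, map_zero])
      have h5 := rep_inv_apply (rF ((emb f).comp σ)) w (exv f x)
      rw [h4, map_zero] at h5
      exact hxK0 h5.symm)
    (by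
      show V K (emb f (σ (h a₀))) (V K g₁ (exv f x)) = _
      rw [← V_mul, ← hg', V_mul]
      have h3 := hxK.fh a₀
      rw [rF_apply] at h3
      show V K g₁ (V K (emb f (σ (h a₀))) (exv f x)) = _
      have h4 : V K (emb f (σ (h a₀))) (exv f x) = (f.comp ι) (a₀ : E) ^ c • exv f x := h3
      rw [h4, map_smul])
    (by
      show V K (emb f (σ (h a₀))) (V K g₁ (rF ((emb f).comp σ) w (exv f x))) = _
      rw [← V_mul, ← hg', V_mul]
      have h4 : V K (emb f (σ (h a₀))) (rF ((emb f).comp σ) w (exv f x)) =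
        ((f.comp ι) (a₀ : E) ^ c)⁻¹ • rF ((emb f).comp σ) w (exv f x) := hy
      rw [h4, map_smul])
  rw [hg₁, ← exv_V] at hres
  exact hres.of_map (exv f) (fun g x => by exact exv_V f (σ g) x) (fun a x => (exv_smul f (ι a) x :)) (exv_inj f)

end

end Cfsg.Agent.R2.T1.N6B
end

-- part: R2/T1/N6B/Main
section
prune_inst 0x410200140650000000000050010000004200000900000080040a000000109020209028040122010040208000060080000000000100000000000000400000001001080000020400000400016000080000000000000000000000000000000000000000000000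
set_option linter.all false
open scoped Cfsg.Agent.FastGrp

-- part: R2/T1/N6B/Fld
section
/-!
# The fields (helper22)
-/

set_option autoImplicit false
set_option linter.unusedSectionVars false

namespace Cfsg.Agent.R2.T1.N6B

open Cfsg Cfsg.Lie Module
open Cfsg.Agent.H943.E7V.Block (D1 rho)
open Cfsg.Agent.H952.F4 (ev es MaxAlt)
open Cfsg.Agent.R2.T1
open Matrix (SpecialLinearGroup)
open Cfsg.Agent.H943.SL2Rel

universe u v w

theorem charP_three {F : Type*} [Field F] (h3 : (3 : F) = 0) : CharP F 3 := by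
  have h1 := CharP.ringChar_of_prime_eq_zero (R := F) Nat.prime_three (by exact_mod_cast h3)
  rw [← h1]
  exact ringChar.charP F

theorem pow_three_mod (n : ℕ) : (Odd n → 3 ^ n % 8 = 3) ∧ (Even n → 3 ^ n % 16 = 1 ∨ 3 ^ n % 16 = 9) := by
  have key : ∀ m : ℕ, 3 ^ (2 * m) % 16 = 1 ∨ 3 ^ (2 * m) % 16 = 9 := by
    intro m
    induction m with
    | zero => left; rfl
    | succ m ih =>
      rw [show 2 * (m + 1) = 2 * m + 2 by ring, pow_add]
      omega
  constructor
  · rintro ⟨m, rfl⟩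
    have h1 := key m
    rw [pow_succ]
    omega
  · rintro ⟨m, rfl⟩
    rw [← two_mul]
    exact key m

/-- embedding of the field with 9 elements -/
theorem exists_iota {E : Type v} [Field E] [Fintype E] (hE : Fintype.card E = 3 ^ 2) [CharP E 3] {F : Type u} [Field F] [Finite F]
    [CharP F 3] {n : ℕ} (hn : Even n) (hF : Nat.card F = 3 ^ n) : Nonempty (E →+* F) := by
  have := Fintype.ofFinite F
  letI : Algebra (ZMod 3) E := ZMod.algebra E 3
  letI : Algebra (ZMod 3) F := ZMod.algebra F 3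
  have h1 : 3 ^ Module.finrank (ZMod 3) E = 3 ^ 2 := by
    rw [FiniteField.pow_finrank_eq_card, hE]
  have h2 : 3 ^ Module.finrank (ZMod 3) F = 3 ^ n := by
    rw [FiniteField.pow_finrank_eq_card, ← Nat.card_eq_fintype_card, hF]
  have h3 := Nat.pow_right_injective (by norm_num : 2 ≤ 3) h1
  have h4 := Nat.pow_right_injective (by norm_num : 2 ≤ 3) h2
  obtain ⟨f⟩ := FiniteField.nonempty_algHom_of_finrank_dvd (F := ZMod 3) (K := E) (L := F) (by
    rw [h3, h4]
    exact hn.two_dvd)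
  exact ⟨f.toRingHom⟩

/-- a generator of the multiplicative group -/
theorem gen_pow_four {E : Type*} [Field E] [Fintype E] [DecidableEq E] (hE : Fintype.card E = 3 ^ 2) {a₀ : Eˣ}
    (ha : ∀ a : Eˣ, a ∈ Subgroup.zpowers a₀) : a₀ ^ 4 = -1 ∧ orderOf a₀ = 8 := by
  have ho : orderOf a₀ = 8 := by
    rw [orderOf_eq_card_of_forall_mem_zpowers ha, Nat.card_eq_fintype_card, Fintype.card_units, hE]
    norm_num
  refine ⟨?_, ho⟩
  have h8 : a₀ ^ 8 = 1 := by rw [← ho, pow_orderOf_eq_one]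
  have h4 : a₀ ^ 4 ≠ 1 := by
    intro h0
    have := orderOf_dvd_of_pow_eq_one h0
    rw [ho] at this
    omega
  have h5 : ((a₀ : E) ^ 4 - 1) * ((a₀ : E) ^ 4 + 1) = 0 := by
    have h6 : (a₀ : E) ^ 8 = 1 := by rw [← Units.val_pow_eq_pow_val, h8, Units.val_one]
    linear_combination h6
  rcases mul_eq_zero.1 h5 with h6 | h6
  · exfalso
    apply h4
    apply Units.ext
    rw [Units.val_pow_eq_pow_val, Units.val_one]
    linear_combination h6
  · apply Units.ext
    rw [Units.val_pow_eq_pow_val, Units.val_neg, Units.val_one]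
    linear_combination h6

/-- square roots -/
theorem exists_root {F : Type u} [Field F] [Finite F] [CharP F 3] (hq : Nat.card F % 16 = 1) {z : F} (hz : z ^ 8 = 1) :
    ∃ e : F, e * e = z := by
  have := Fintype.ofFinite F
  have hz0 : z ≠ 0 := by
    rintro rfl
    rw [zero_pow (by norm_num)] at hz
    exact zero_ne_one hz
  have hc : ringChar F ≠ 2 := by
    rw [ringChar.eq F 3]
    norm_num
  have h1 : IsSquare z := by
    rw [FiniteField.isSquare_iff hc hz0]
    rw [Nat.card_eq_fintype_card] at hq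
    obtain ⟨m, hm⟩ : ∃ m, Fintype.card F / 2 = 8 * m := ⟨Fintype.card F / 16, by omega⟩
    rw [hm, pow_mul, hz, one_pow]
  obtain ⟨e, he⟩ := h1
  exact ⟨e, he.symm⟩

end Cfsg.Agent.R2.T1.N6B
end

-- part: R2/T1/N6B/Main
section
/-!
# S5929, `n = 6`, characteristic three, the covering group (helper22; box B)

* `no_stab` : no highest weight vector of `SL(2, 9)` on `V(F)` is an eigenvector ..
* `six3c` : **box B**.
-/

set_option autoImplicit false
set_option maxRecDepth 100000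
set_option linter.unusedSectionVars false

namespace Cfsg.Agent.R2.T1.N6B

open Cfsg Cfsg.Lie Module
open Cfsg.Agent.H943.E7V.Block (D1 rho)
open Cfsg.Agent.H952.F4 (ev es MaxAlt)
open Cfsg.Agent.R2.T1
open Matrix (SpecialLinearGroup)
open Cfsg.Agent.H943.SL2Rel

universe u v w

section
variable {F : Type u} [Field F] [Finite F] {H : Subgroup ↥(chevE7.group F)} {φ : A6 →* ↥(chevE7.group F)}

/-- the fixed element of the torus and the elements commuting with it -/
theorem comm_torus {E : Type} [Field E] {a₀ : Eˣ} (ha : a₀ * a₀ ≠ 1) {s : SpecialLinearGroup (Fin 2) E}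
    (hs : s * h a₀ = h a₀ * s) : ∃ b : Eˣ, s = h b := by
  have h1 := congrArg (fun m : SpecialLinearGroup (Fin 2) E => (m : Matrix (Fin 2) (Fin 2) E)) hs
  have h2 : (s : Matrix (Fin 2) (Fin 2) E) * !![(a₀ : E), 0; 0, (a₀ : E)⁻¹] = !![(a₀ : E), 0; 0, (a₀ : E)⁻¹] * s := h1
  have ha0 : (a₀ : E) ≠ 0 := a₀.ne_zero
  have hne : (a₀ : E) ≠ (a₀ : E)⁻¹ := by
    intro h3
    apply ha
    apply Units.ext
    rw [Units.val_mul, Units.val_one]
    nth_rewrite 1 [h3]
    exact inv_mul_cancel₀ ha0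
  have e01 := congrFun (congrFun h2 0) 1
  have e10 := congrFun (congrFun h2 1) 0
  simp [Matrix.mul_apply, Fin.sum_univ_two] at e01 e10
  have f01 : (s : Matrix (Fin 2) (Fin 2) E) 0 1 = 0 := by
    have h3 : (s : Matrix (Fin 2) (Fin 2) E) 0 1 * ((a₀ : E)⁻¹ - a₀) = 0 := by linear_combination e01
    exact (mul_eq_zero.1 h3).resolve_right (sub_ne_zero.2 hne.symm)
  have f10 : (s : Matrix (Fin 2) (Fin 2) E) 1 0 = 0 := by
    have h3 : (s : Matrix (Fin 2) (Fin 2) E) 1 0 * (a₀ - (a₀ : E)⁻¹) = 0 := by linear_combination e10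
    exact (mul_eq_zero.1 h3).resolve_right (sub_ne_zero.2 hne)
  have hdet : (s : Matrix (Fin 2) (Fin 2) E) 0 0 * (s : Matrix (Fin 2) (Fin 2) E) 1 1 = 1 := by
    have h3 := s.2
    rw [Matrix.det_fin_two, f01, zero_mul, sub_zero] at h3
    exact h3
  refine ⟨Units.mk0 _ (left_ne_zero_of_mul_eq_one hdet), ?_⟩
  apply Subtype.ext
  show (s : Matrix (Fin 2) (Fin 2) E) = !![(s : Matrix (Fin 2) (Fin 2) E) 0 0, 0; 0, ((s : Matrix (Fin 2) (Fin 2) E) 0 0)⁻¹]
  ext i j
  fin_cases i <;> fin_cases j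
  · rfl
  · exact f01
  · exact f10
  · exact eq_inv_of_mul_eq_one_right hdet

/-- no `H`-eigenvector -/
theorem no_eigen [CharP F 3] (hM : MaxAlt H 6 φ) {E : Type} [Field E] [Fintype E] [DecidableEq E] [CharP E 3]
    (ι : E →+* F) (hE : Fintype.card E = 3 ^ 2) {σ : SpecialLinearGroup (Fin 2) E →* Gh F}
    (hr : σ.range = φ.range.comap (ad F)) {c : ℕ} (hc : c = 1 ∨ c = 3) {x : D1 → F} (hx : IsHw ι (rF σ) c x) (hx0 : x ≠ 0)
    (hst : ∀ g : Gh F, ad F g ∈ H → ∃ g₀ s, g = g₀ * σ s ∧ (∀ s, ∃ s', g₀ * σ s = σ s' * g₀) ∧ ∃ e : F, V F g₀ x = e • x) :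
    False := by
  classical
  obtain ⟨W, hW, hxW, hfr, hmin⟩ := hx.plane ι hE hc hx0
  refine no_plane hM (by norm_num) (Or.inr (by norm_num)) (W := W) (fun g hg w hw => ?_) hfr
  obtain ⟨g₀, s, rfl, hn, e, he⟩ := hst g hg
  rw [V_mul]
  have h1 : W ≤ W.comap (V F g₀) := by
    refine hmin _ (fun t y hy => ?_) ?_
    · obtain ⟨s', hs'⟩ := hn t
      show V F g₀ (V F (σ t) y) ∈ W
      rw [← V_mul, hs', V_mul]
      exact hW s' _ hy
    · show V F g₀ x ∈ W
      rw [he]
      exact W.smul_mem e hxW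
  exact h1 (hW s w hw)

/-- **box B of S5929** -/
theorem six3c (hM : MaxAlt H 6 φ) (hc : Cover φ) (h3 : (3 : F) = 0) : False := by
  classical
  have hch : CharP F 3 := charP_three h3
  have h2 : (2 : F) ≠ 0 := two_ne_of_three
  have := Fintype.ofFinite F
  -- the field with 9 elements
  let E := GaloisField 3 2
  have : Fintype E := Fintype.ofFinite E
  have hE : Fintype.card E = 3 ^ 2 := by
    rw [← Nat.card_eq_fintype_card]
    exact GaloisField.card 3 2 (by norm_num)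
  have hE9 : Fintype.card E = 9 := by rw [hE]; norm_num
  obtain ⟨σ, hσi, hσn, hσr⟩ := exists_sl (F9 := E) hE9 hM.inj hc
  obtain ⟨a₀, ha⟩ := IsCyclic.exists_generator (α := Eˣ)
  obtain ⟨ha4, hao⟩ := gen_pow_four hE ha
  have ha8 : a₀ ^ 8 = 1 := by rw [← hao, pow_orderOf_eq_one]
  -- the element of order 8
  obtain ⟨x₀, hx₀⟩ : ∃ x₀, x₀ = σ (h a₀) := ⟨_, rfl⟩
  have hx4 : V F (x₀ ^ 4) = -1 := by
    rw [hx₀, ← map_pow, ← h_pow, ha4, h_neg_one, hσn]
  have hmemr : ∀ g : Gh F, ad F g ∈ φ.range → ∃ s, σ s = g := by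
    intro g hg
    have h1 : g ∈ σ.range := by rw [hσr]; exact hg
    exact h1
  have hmemr' : ∀ s, ad F (σ s) ∈ φ.range := by
    intro s
    have h1 : σ s ∈ σ.range := ⟨s, rfl⟩
    rw [hσr] at h1
    exact h1
  -- the order of the field
  obtain ⟨n, -, hn⟩ := FiniteField.card F 3
  have hn' : Nat.card F = 3 ^ (n : ℕ) := by rw [Nat.card_eq_fintype_card, hn]
  have hev : Even (n : ℕ) := by
    by_contra hno
    rw [Nat.not_even_iff_odd] at hno
    refine Cfsg.Agent.R2.T1.Five.no_eight h2 hx4 (Or.inl ?_)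
    rw [hn']
    exact (pow_three_mod _).1 hno
  obtain ⟨ι⟩ := exists_iota (E := E) hE (F := F) hev hn'
  -- the highest weight vectors
  obtain ⟨c, hc13, x, hx0, hx⟩ := exists_hw_V ι hE hσn
  -- normality
  have hnorm : ∀ g : Gh F, ad F g ∈ H → ∀ s, ∃ s', g * σ s = σ s' * g := by
    intro g hg s
    have h1 : ad F (g * σ s * g⁻¹) ∈ φ.range := by
      rw [map_mul, map_mul, map_inv]
      exact hM.norm _ hg _ (hmemr' s)
    obtain ⟨s', hs'⟩ := hmemr _ h1
    exact ⟨s', by rw [hs']; group⟩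
  by_cases hH : ∀ g ∈ H, g ∈ φ.range
  · -- `H = A₆`
    refine no_eigen hM ι hE hσr hc13 hx hx0 fun g hg => ?_
    obtain ⟨s, hs⟩ := hmemr g (hH _ hg)
    exact ⟨1, s, by rw [one_mul, hs], fun s => ⟨s, by rw [one_mul, mul_one]⟩, 1, by rw [V_one, one_smul]⟩
  push Not at hH
  obtain ⟨k, hkH, hk⟩ := hH
  obtain ⟨k', hk'⟩ := ad_surjective k
  obtain ⟨y, hy, hyk⟩ := exists_adj h2 hM hx4 (by rw [hx₀]; exact hmemr' _) (h := k') (by rw [hk']; exact hkH)
  obtain ⟨g₀, hg₀⟩ : ∃ g₀, g₀ = y * k' := ⟨_, rfl⟩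
  rw [← hg₀] at hyk
  have hg₀H : ad F g₀ ∈ H := by
    rw [hg₀, map_mul, hk']
    exact H.mul_mem (hM.le hy) hkH
  have hg₀r : ad F g₀ ∉ φ.range := by
    intro h1
    apply hk
    rw [hg₀, map_mul, hk'] at h1
    exact (Subgroup.mul_mem_cancel_left _ hy).1 h1
  have hcomm : g₀ * x₀ = x₀ * g₀ := by
    nth_rewrite 2 [← hyk]
    group
  -- the square
  obtain ⟨s₀, hs₀⟩ := hmemr (g₀ * g₀) (by rw [map_mul]; exact hM.sq _ hg₀H)
  obtain ⟨b, rfl⟩ : ∃ b : Eˣ, s₀ = h b := by
    refine comm_torus (a₀ := a₀) (fun h0 => ?_) (hσi ?_)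
    · have := orderOf_dvd_of_pow_eq_one (x := a₀) (n := 2) (by rw [sq, h0])
      rw [hao] at this
      omega
    · rw [map_mul, map_mul, hs₀, ← hx₀]
      calc g₀ * g₀ * x₀ = g₀ * (g₀ * x₀) := by group
        _ = g₀ * (x₀ * g₀) := by rw [hcomm]
        _ = (g₀ * x₀) * g₀ := by group
        _ = (x₀ * g₀) * g₀ := by rw [hcomm]
        _ = x₀ * (g₀ * g₀) := by group
  -- the square root of the eigenvalue
  obtain ⟨j, hj⟩ : ∃ j : ℕ, a₀ ^ j = b := by
    obtain ⟨j, hj⟩ := (mem_powers_iff_mem_zpowers (x := a₀)).2 (ha b)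
    exact ⟨j, hj⟩
  have hζ8 : (ι (a₀ : E)) ^ 8 = 1 := by
    rw [← map_pow, ← Units.val_pow_eq_pow_val, ha8, Units.val_one, map_one]
  obtain ⟨e, he⟩ : ∃ e : F, e * e = ι (b : E) ^ c := by
    rcases Nat.even_or_odd j with hje | hjo
    · obtain ⟨m, hm⟩ := hje
      refine ⟨ι (a₀ : E) ^ (m * c), ?_⟩
      rw [← hj, hm, Units.val_pow_eq_pow_val, map_pow, ← pow_mul, ← pow_add]
      congr 1
      ring
    · have hq : Nat.card F % 16 = 1 := by
        rw [hn']
        rcases (pow_three_mod (n : ℕ)).2 hev with h1 | h1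
        · exact h1
        · exfalso
          rw [← hn'] at h1
          refine no_sixteen h1 (k := g₀) ?_
          have h4 : g₀ ^ 8 = σ (h (b ^ 4)) := by
            rw [h_pow, map_pow, hs₀, ← sq, ← pow_mul]
          have h5 : b ^ 4 = -1 := by
            rw [← hj, ← pow_mul, mul_comm, pow_mul, ha4, hjo.neg_one_pow]
          rw [h4, h5, h_neg_one, hσn]
      obtain ⟨e₀, he₀⟩ := exists_root hq hζ8
      refine ⟨e₀ ^ (j * c), ?_⟩
      rw [← mul_pow, he₀, ← hj, Units.val_pow_eq_pow_val, map_pow, ← pow_mul]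
  -- the eigenvector
  have hn₀ : ∀ s, ∃ s', σ s * g₀ = g₀ * σ s' := by
    intro s
    obtain ⟨s', hs'⟩ := hnorm g₀⁻¹ (by rw [map_inv]; exact H.inv_mem hg₀H) s
    refine ⟨s', ?_⟩
    have h1 : σ s = g₀ * (g₀⁻¹ * σ s) := by group
    rw [h1, hs']
    group
  have hx' := hw_normal ι hE hσn hc13 ha hn₀ (by rw [← hx₀]; exact hcomm) hx
  have hsq : V F g₀ (V F g₀ x) = (e * e) • x := by
    rw [← V_mul, ← hs₀, he]
    exact hx.fh b
  obtain ⟨v, hv0, hv, e', he'⟩ : ∃ v : D1 → F, v ≠ 0 ∧ IsHw ι (rF σ) c v ∧ ∃ e' : F, V F g₀ v = e' • v := by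
    by_cases hz : V F g₀ x + e • x = 0
    · exact ⟨x, hx0, hx, -e, by rw [neg_smul]; exact eq_neg_of_add_eq_zero_left hz⟩
    · refine ⟨_, hz, hx'.add (hx.smul e), e, ?_⟩
      rw [map_add, hsq, map_smul, smul_add, mul_smul, add_comm]
  have hodd' : Cfsg.Agent.R2.T1.N6D.NoOdd H φ := by
    intro g hg τ hτ hcon
    exact hodd h2 hM hc g τ hτ fun a => hcon a (cj τ a) rfl
  refine no_eigen hM ι hE hσr hc13 hv hv0 fun g hg => ?_
  by_cases hgr : ad F g ∈ φ.range
  · obtain ⟨s, hs⟩ := hmemr g hgr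
    exact ⟨1, s, by rw [one_mul, hs], fun s => ⟨s, by rw [one_mul, mul_one]⟩, 1, by rw [V_one, one_smul]⟩
  · have h1 := Cfsg.Agent.R2.T1.N6D.quot_two hM hodd' hg₀H hg hg₀r hgr
    rw [← map_inv, ← map_mul] at h1
    obtain ⟨s, hs⟩ := hmemr _ h1
    exact ⟨g₀, s, by rw [hs]; group, hnorm g₀ hg₀H, e', he'⟩

end

end Cfsg.Agent.R2.T1.N6B
end
end

-- part: R2/T1/N7/Tau2
section
prune_inst 0x40020000000000000000000001000004044000002004000000020080000400062090000401400001010080c000001000000000010000000000000040000010120808210020000a000000006000000000000000000000000000000000000000000000000000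
set_option linter.all false
open scoped Cfsg.Agent.FastGrp

-- part: R2/T1/N7/Tau
section
/-!
# S5929, `n = 7`: no fixed vector on the adjoint module (helper19)

* `exists_tauV` : the involution of an element of order 5 with 16 fixed weights, with its action on both modules;
* `tau7` : if `A₇` has a fixed vector on the adjoint module then the involution of the 5-cycle `x` belongs to `H` and
  induces the transposition of the two fixed points of `x`;
* `no_inv7r` : every characteristic `≠ 2, 5`, if `H = A₇`;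
* `no_inv7` : characteristic 3, lift.
-/

set_option autoImplicit false
set_option maxRecDepth 100000

namespace Cfsg.Agent.R2.T1.N7.Tau

open Cfsg Cfsg.Lie Module Equiv Equiv.Perm
open Cfsg.Agent.H943.E7V.Block (D1 rho)
open Cfsg.Agent.H952.F4 (ev es MaxAlt)
open Cfsg.Agent.R2.T1 Cfsg.Agent.R2.T1.Five

universe u v

/-- **The involution over finite fields, with its action on both modules.** -/
theorem exists_tauV {F : Type u} [Field F] [Finite F] (h2 : (2 : F) ≠ 0) (h5 : (5 : F) ≠ 0) {x : Gh F} (hx : x ^ 5 = 1)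
    (h16 : ev (V F x) 1 = 16) :
    ∃ τ : Gh F, τ * τ = 1 ∧ ad F τ ≠ 1 ∧ τ * x = x * τ ∧ (∀ X, L F x X = X → L F τ X = X) ∧
      ∀ v, V F x v = v → V F τ v = -v := by
  have := Fintype.ofFinite F
  obtain ⟨p, hp⟩ := CharP.exists F
  have hpp : Fact p.Prime := ⟨CharP.char_is_prime F p⟩
  have hcop : (5 : ℕ).Coprime p := by
    rw [Nat.coprime_primes (by norm_num) hpp.out]
    rintro rfl
    apply h5
    exact_mod_cast CharP.cast_eq_zero F 5
  set K := AlgebraicClosure F with hK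
  set f : F →+* K := algebraMap F K with hf
  have hfr := frame p (by norm_num : (5 : ℕ) ≠ 0) hcop hx
  have h2K : (2 : K) ≠ 0 := by
    have h := (map_ne_zero f).2 h2
    rwa [map_ofNat] at h
  have h5K : ((5 : ℕ) : K) ≠ 0 := by
    have h := (map_ne_zero f).2 h5
    rw [map_ofNat] at h
    exact_mod_cast h
  have : NeZero ((5 : ℕ) : K) := ⟨h5K⟩
  obtain ⟨ζ, hζ⟩ : ∃ ζ : K, IsPrimitiveRoot ζ 5 := HasEnoughRootsOfUnity.exists_primitiveRoot K 5
  have hz : IsPrimitiveRoot (Units.mk0 ζ (hζ.ne_zero (by norm_num))) 5 := by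
    rw [← IsPrimitiveRoot.coe_units_iff]
    exact hζ
  have h16' : ev (V K (emb f x)) 1 = 16 := by rw [ev_V_one, h16]
  obtain ⟨τ, hτ, hu⟩ := exists_tau h2K hz hfr h16'
  let s : K →+* K := (FiniteField.frobeniusAlgEquivOfAlgebraic F K : K →+* K)
  have hs : ∀ t, s t = t ^ Nat.card F := by
    intro t
    rw [Nat.card_eq_fintype_card]
    rfl
  have hsurj : Function.Surjective s := (FiniteField.frobeniusAlgEquivOfAlgebraic F K).surjective
  have h7 : emb s τ = τ := by
    apply hu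
    have h8 := hτ.map s hsurj
    rwa [emb_frob f s hs] at h8
  obtain ⟨τ0, rfl⟩ := exists_of_emb_eq f s hs h7
  have hinj := emb_injective f
  refine ⟨τ0, ?_, ?_, ?_, ?_, ?_⟩
  · apply hinj
    rw [map_mul, hτ.1, map_one]
  · intro h8
    exact hτ.ad_ne h2K ((ad_emb_eq_one_iff f τ0).2 h8)
  · have h8 := hu _ (by
      have h9 := hτ.conj (emb f x)
      have e : emb f x * emb f x * (emb f x)⁻¹ = emb f x := by group
      rwa [e] at h9)
    apply hinj
    rw [map_mul, map_mul]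
    nth_rewrite 1 [← h8]
    group
  · intro X hX
    apply fun_injective f
    rw [← L_emb]
    apply hτ.2.1
    rw [L_emb, hX]
  · intro v hv
    apply fun_injective f
    rw [← V_emb]
    rw [hτ.2.2.1 (fun i => f (v i)) (by rw [V_emb, hv])]
    funext i
    rw [Pi.neg_apply, Pi.neg_apply, map_neg]

/-! ### permutations -/

theorem comm5 {x σ : Perm (Fin 7)} {a b y0 : Fin 7} (hab : a ≠ b) (ha : x a = a) (hb : x b = b)
    (hcov : ∀ i, i = a ∨ i = b ∨ ∃ k < 5, (x ^ k) y0 = i) (hx5 : x ^ 5 = 1) (hy : ∀ k, 0 < k → k < 5 → (x ^ k) y0 ≠ y0)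
    (hc : σ * x = x * σ) (hs : σ * σ = 1) : σ = 1 ∨ σ = swap a b := by
  have hp : ∀ (k : ℕ) (i : Fin 7), σ ((x ^ k) i) = (x ^ k) (σ i) := by
    intro k i
    have h1 : Commute σ x := hc
    exact congrArg (fun g : Perm (Fin 7) => g i) (h1.pow_right k).eq
  have hss : ∀ i, σ (σ i) = i := fun i => congrArg (fun g : Perm (Fin 7) => g i) hs
  have hx1 : x y0 ≠ y0 := by
    have := hy 1 (by norm_num) (by norm_num)
    rwa [pow_one] at this
  have hσ : ∀ c, x c = c → ∀ k, σ c = (x ^ k) y0 → False := by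
    intro c hcc k hk
    apply hx1
    have h1 := hp 1 c
    rw [pow_one, hcc, hk, ← Perm.mul_apply, ← pow_succ', pow_succ, Perm.mul_apply] at h1
    exact ((x ^ k).injective h1).symm
  have h0 : σ y0 = y0 := by
    rcases hcov (σ y0) with h | h | ⟨k, hk, h⟩
    · exfalso
      apply hσ a ha 0
      rw [pow_zero, Perm.one_apply, ← h, hss]
    · exfalso
      apply hσ b hb 0
      rw [pow_zero, Perm.one_apply, ← h, hss]
    · have h1 := hp k y0
      rw [h, hss, ← h, ← Perm.mul_apply, ← pow_add] at h1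
      have h2 : ∀ m j : ℕ, x ^ (5 * m + j) = x ^ j := by
        intro m j
        rw [pow_add, pow_mul, hx5, one_pow, one_mul]
      interval_cases k
      · rw [← h, pow_zero, Perm.one_apply]
      · exact absurd h1.symm (hy 2 (by norm_num) (by norm_num))
      · exact absurd h1.symm (hy 4 (by norm_num) (by norm_num))
      · have h3 := h2 1 1
        norm_num at h3 h1
        rw [h3] at h1
        exact absurd h1.symm hx1
      · have h3 := h2 1 3
        norm_num at h3 h1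
        rw [h3] at h1
        exact absurd h1.symm (hy 3 (by norm_num) (by norm_num))
  have h1 : ∀ c, x c = c → σ c = a ∨ σ c = b := by
    intro c hcc
    rcases hcov (σ c) with h | h | ⟨k, -, h⟩
    · exact Or.inl h
    · exact Or.inr h
    · exact (hσ c hcc k h.symm).elim
  rcases h1 a ha with h2 | h2
  · have h3 : σ b = b := (h1 b hb).resolve_left fun h => hab (σ.injective (h2.trans h.symm))
    left
    ext i
    rcases hcov i with rfl | rfl | ⟨k, -, rfl⟩
    · rw [h2]; rfl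
    · rw [h3]; rfl
    · rw [hp, h0]; rfl
  · have h3 : σ b = a := by rw [← h2, hss]
    right
    ext i
    rcases hcov i with rfl | rfl | ⟨k, -, rfl⟩
    · rw [h2, swap_apply_left]
    · rw [h3, swap_apply_right]
    · have h4 : ∀ c, x c = c → (x ^ k) y0 ≠ c := by
        intro c hcc h5
        apply hσ c hcc k
        rw [h5, ← h5, hp, h0]
      rw [hp, h0, swap_apply_of_ne_of_ne (h4 a ha) (h4 b hb)]

/-- the centralizer of `A₇` -/
theorem alt_comm {π : Perm (Fin 7)} (h : ∀ a ∈ alternatingGroup (Fin 7), π * a * π⁻¹ = a) : π = 1 := by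
  by_contra h1
  obtain ⟨i, hi⟩ : ∃ i, π i ≠ i := by
    by_contra h2
    push Not at h2
    exact h1 (Perm.ext h2)
  have key : ∀ i j : Fin 7, ∃ k l : Fin 7, k ≠ l ∧ k ≠ i ∧ l ≠ i ∧ k ≠ j ∧ l ≠ j := by decide
  obtain ⟨k, l, h2, h3, h4, h5, h6⟩ := key i (π i)
  have h7 := h _ (cyc3_mem h5.symm h2)
  rw [mul_inv_eq_iff_eq_mul] at h7
  have h8 := congrArg (fun g : Perm (Fin 7) => g i) h7
  change π (cyc3 (π i) k l i) = cyc3 (π i) k l (π i) at h8
  rw [cyc3_fix hi.symm h3.symm h4.symm] at h8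
  exact cyc3_ne h5.symm h6.symm h2 (Or.inl rfl) h8.symm

/-! ### the involution belongs to `H` -/

section
variable {F : Type u} [Field F] [Finite F] {H : Subgroup ↥(chevE7.group F)}
  {φ : ↥(alternatingGroup (Fin 7)) →* ↥(chevE7.group F)}

theorem ev_L_ne (h5 : (5 : F) ≠ 0) {x : Gh F} (hx : x ^ 5 = 1) (h16 : ev (V F x) 1 = 16) : ev (L F x) 1 ≠ 133 := by
  obtain ⟨P, hP, h1, h2, -⟩ := patF5 h5 hx
  have key : ∀ P ∈ T5, P.1.getD 0 0 = 16 → P.2.getD 0 0 ≠ 133 := by decide
  rw [h2]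
  exact key P hP (by rw [← h1, h16])

theorem conj_mem {c σ : Perm (Fin 7)} (hc : c ∈ alternatingGroup (Fin 7)) : σ * c * σ⁻¹ ∈ alternatingGroup (Fin 7) := by
  rw [mem_alternatingGroup] at hc ⊢
  rw [Perm.sign_mul, Perm.sign_mul, hc, mul_one, Perm.sign_inv, Int.units_mul_self]

/-- **The involution of a 5-cycle**, if `A₇` has fixed vectors on the adjoint module. -/
theorem tau7 (h2 : (2 : F) ≠ 0) (h5 : (5 : F) ≠ 0) (hM : MaxAlt H 7 φ)
    (hne : Representation.invariants (MonoidHom.comp (LK F) φ) ≠ ⊥) {x : ↥(alternatingGroup (Fin 7))} {a b y0 : Fin 7}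
    (hab : a ≠ b) (ha : (x : Perm (Fin 7)) a = a) (hb : (x : Perm (Fin 7)) b = b)
    (hcov : ∀ i, i = a ∨ i = b ∨ ∃ k < 5, ((x : Perm (Fin 7)) ^ k) y0 = i) (hx5 : (x : Perm (Fin 7)) ^ 5 = 1)
    (hy : ∀ k, 0 < k → k < 5 → ((x : Perm (Fin 7)) ^ k) y0 ≠ y0) {X : Gh F} (hX : X ^ 5 = 1) (hXx : ad F X = φ x)
    (h16 : ev (V F X) 1 = 16) :
    ∃ τ : Gh F, ad F τ ∈ H ∧ (∀ v, V F X v = v → V F τ v = -v) ∧
      ∀ c d : ↥(alternatingGroup (Fin 7)), (d : Perm (Fin 7)) = swap a b * c * (swap a b)⁻¹ →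
        ad F τ * φ c * (ad F τ)⁻¹ = φ d := by
  obtain ⟨τ, e1, e2, e3, e4, e5⟩ := exists_tauV h2 h5 hX h16
  have hfix : ∀ w ∈ Representation.invariants (MonoidHom.comp (LK F) φ), L F X w = w := by
    intro w hw
    rw [Representation.mem_invariants] at hw
    rw [L_eq, hXx]
    exact hw x
  have htop : Representation.invariants (MonoidHom.comp (LK F) φ) ≠ ⊤ := by
    intro h
    apply ev_L_ne h5 hX h16
    have h4 : Module.End.eigenspace (L F X) 1 = ⊤ := by
      rw [eq_top_iff]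
      intro w _
      rw [Module.End.mem_eigenspace_iff, one_smul]
      exact hfix w (by rw [h]; trivial)
    rw [ev, h4, finrank_top, finrank_L]
  have hτ : ad F τ ∈ H := blueL h2 hM.coatom (stab_inv hM) hne htop fun w hw => by
    rw [e4 w (hfix w hw)]
    exact hw
  obtain ⟨σ, hσ⟩ := exists_perm le_rfl hM hτ
  have hσx : σ * x = x * σ := by
    have h6 := hσ x ⟨σ * x * σ⁻¹, conj_mem x.2⟩ rfl
    have h7 : ad F τ * φ x * (ad F τ)⁻¹ = φ x := by
      rw [← hXx, ← map_mul, e3, map_mul, mul_inv_cancel_right]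
    rw [h7] at h6
    have h8 : (x : Perm (Fin 7)) = σ * x * σ⁻¹ := congrArg Subtype.val (hM.inj h6)
    rw [eq_mul_inv_iff_mul_eq] at h8
    exact h8.symm
  have hσσ : σ * σ = 1 := by
    apply alt_comm
    intro c hc
    have h6 := hσ ⟨c, hc⟩ ⟨σ * c * σ⁻¹, conj_mem hc⟩ rfl
    have h7 := hσ ⟨σ * c * σ⁻¹, conj_mem hc⟩ ⟨σ * (σ * c * σ⁻¹) * σ⁻¹, conj_mem (conj_mem hc)⟩ rfl
    rw [← h6] at h7
    have h8 : ad F τ * ad F τ = 1 := by rw [← map_mul, e1, map_one]
    have h9 : ad F τ * (ad F τ * φ ⟨c, hc⟩ * (ad F τ)⁻¹) * (ad F τ)⁻¹ =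
        (ad F τ * ad F τ) * φ ⟨c, hc⟩ * (ad F τ * ad F τ)⁻¹ := by group
    rw [h9, h8, one_mul, inv_one, mul_one] at h7
    have h10 : c = σ * (σ * c * σ⁻¹) * σ⁻¹ := congrArg Subtype.val (hM.inj h7)
    conv_rhs => rw [h10]
    group
  have hσ1 : σ ≠ 1 := by
    rintro rfl
    apply e2
    apply centralizer_eq hM (by norm_num)
    intro c
    have h6 := hσ c c (by rw [one_mul, inv_one, mul_one])
    rw [mul_inv_eq_iff_eq_mul] at h6
    exact h6.symm
  have h6 := (comm5 hab ha hb hcov hx5 hy hσx hσσ).resolve_left hσ1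
  subst h6
  exact ⟨τ, hτ, e5, hσ⟩

end

end Cfsg.Agent.R2.T1.N7.Tau
end

-- part: R2/T1/N7/Tau2
section
/-!
# S5929, `n = 7`: no fixed vector on the adjoint module, final forms (helper19)

* `no_inv7r` : every characteristic `≠ 2, 5`, if every element of `H` is in the image of `A₇`;
* `no_inv7` : characteristic 3, lift (`H = A₇` or `S₇`).
-/

set_option autoImplicit false
set_option maxRecDepth 100000

namespace Cfsg.Agent.R2.T1.N7.Tau

open Cfsg Cfsg.Lie Module Equiv Equiv.Perm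
open Cfsg.Agent.H943.E7V.Block (D1 rho)
open Cfsg.Agent.H952.F4 (ev es MaxAlt)
open Cfsg.Agent.R2.T1 Cfsg.Agent.R2.T1.Five

universe u v

/-! ### linear algebra -/

section lin
variable {K : Type u} [Field K] {M : Type v} [AddCommGroup M] [Module K M] [FiniteDimensional K M]

theorem finrank_ker_mul (S T : Module.End K M) :
    finrank K ↥(LinearMap.ker (S * T)) ≤ finrank K ↥(LinearMap.ker S) + finrank K ↥(LinearMap.ker T) := by
  have h := LinearMap.finrank_range_add_finrank_ker (T.domRestrict (LinearMap.ker (S * T)))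
  have h1 : finrank K ↥(LinearMap.range (T.domRestrict (LinearMap.ker (S * T)))) ≤ finrank K ↥(LinearMap.ker S) := by
    apply Submodule.finrank_mono
    rintro _ ⟨⟨v, hv⟩, rfl⟩
    exact hv
  have h2 : finrank K ↥(LinearMap.ker (T.domRestrict (LinearMap.ker (S * T)))) ≤ finrank K ↥(LinearMap.ker T) := by
    let f : ↥(LinearMap.ker (T.domRestrict (LinearMap.ker (S * T)))) →ₗ[K] ↥(LinearMap.ker T) :=
      LinearMap.codRestrict _ ((Submodule.subtype _).comp (Submodule.subtype _)) fun v => by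
        have h3 := v.2
        rw [LinearMap.mem_ker] at h3 ⊢
        exact h3
    apply LinearMap.finrank_le_finrank_of_injective (f := f)
    intro v w hvw
    apply Subtype.ext
    apply Subtype.ext
    have h3 := congrArg Subtype.val hvw
    exact h3
  omega

theorem ev_cube (h3 : (3 : K) = 0) {T : Module.End K M} (hT : T ^ 3 = 1) : finrank K M ≤ 3 * ev T 1 := by
  have h1 : (T - 1) * ((T - 1) * (T - 1)) = 0 := by
    have h4 : (T - 1) * ((T - 1) * (T - 1)) = T ^ 3 - 1 - (3 : K) • (T * T) + (3 : K) • T := by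
      have : (3 : K) • (T * T) = T * T + T * T + T * T := by
        have : (3 : K) = 1 + 1 + 1 := by norm_num
        rw [this, add_smul, add_smul, one_smul]
      rw [this]
      have : (3 : K) • T = T + T + T := by
        have : (3 : K) = 1 + 1 + 1 := by norm_num
        rw [this, add_smul, add_smul, one_smul]
      rw [this]
      noncomm_ring
    rw [h4, hT, h3, zero_smul, zero_smul, sub_self, sub_zero, add_zero]
  have h4 := finrank_ker_mul (T - 1) ((T - 1) * (T - 1))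
  have h5 := finrank_ker_mul (T - 1) (T - 1)
  rw [h1, LinearMap.ker_zero, finrank_top] at h4
  have h6 : ev T 1 = finrank K ↥(LinearMap.ker (T - 1)) := by
    rw [ev, Module.End.eigenspace_def, one_smul]
  omega

end lin

/-! ### the permutations -/

abbrev A7 := ↥(alternatingGroup (Fin 7))

/-- the generators of a transitive subgroup `PSL₂(5)` on `1, .., 6` -/
def bx : Perm (Fin 7) := c[(3 : Fin 7), 4] * c[(5 : Fin 7), 6]
def by' : Perm (Fin 7) := c[(1 : Fin 7), 2, 3] * c[(4 : Fin 7), 5, 6]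

/-- the words of the elements of order 5 fixing `0` and `i` -/
def wd : Fin 7 → List (Fin 4) := ![[], [0, 3, 0, 2], [0, 2, 0, 3], [0, 2, 0, 2, 0], [2, 0, 2], [0, 2], [0, 3]]

/-- the elements of order 5 fixing `0` and `i` -/
def fv (i : Fin 7) : Perm (Fin 7) := Cfsg.Agent.H952.F4.Gen.ev bx by' (wd i)

/-- conjugating `fv i` to its square -/
def cj : Fin 7 → Perm (Fin 7) := ![1, c[(0 : Fin 7), 1] * c[(3 : Fin 7), 6, 4, 5], c[(0 : Fin 7), 2] * c[(3 : Fin 7), 5, 4, 6], c[(0 : Fin 7), 3] * c[(2 : Fin 7), 5, 6, 4],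
  c[(0 : Fin 7), 4] * c[(2 : Fin 7), 6, 5, 3], c[(0 : Fin 7), 5] * c[(2 : Fin 7), 4, 3, 6], c[(0 : Fin 7), 6] * c[(2 : Fin 7), 3, 4, 5]]

/-- a point moved by `fv i` -/
def y0 : Fin 7 → Fin 7 := ![0, 2, 1, 1, 1, 1, 1]

theorem bx_mem : bx ∈ alternatingGroup (Fin 7) := by rw [mem_alternatingGroup]; decide +kernel
theorem by_mem : by' ∈ alternatingGroup (Fin 7) := by rw [mem_alternatingGroup]; decide +kernel
theorem fv_mem (i : Fin 7) : fv i ∈ alternatingGroup (Fin 7) := by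
  rw [mem_alternatingGroup]; revert i; decide +kernel
theorem cj_mem (i : Fin 7) : cj i ∈ alternatingGroup (Fin 7) := by
  rw [mem_alternatingGroup]; revert i; decide +kernel

theorem fv_zero (i : Fin 7) : fv i 0 = 0 := by revert i; decide +kernel
theorem fv_self (i : Fin 7) : fv i i = i := by revert i; decide +kernel
theorem fv_cov : ∀ i : Fin 7, i ≠ 0 → ∀ j, j = 0 ∨ j = i ∨ ∃ k < 5, ((fv i) ^ k) (y0 i) = j := by decide +kernel
theorem fv_five (i : Fin 7) : fv i ^ 5 = 1 := by revert i; decide +kernel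
theorem fv_mv : ∀ i : Fin 7, i ≠ 0 → ∀ k < 5, 0 < k → ((fv i) ^ k) (y0 i) ≠ y0 i := by decide +kernel
theorem fv_cj (i : Fin 7) : cj i * fv i * (cj i)⁻¹ = fv i ^ 2 := by revert i; decide +kernel
theorem fv_ne : ∀ i : Fin 7, i ≠ 0 → fv i ≠ 1 := by decide +kernel
theorem bx_two : bx * bx = 1 := by decide +kernel
theorem bx_ne : bx ≠ 1 := by decide +kernel
theorem by_three : by' ^ 3 = 1 := by decide +kernel
theorem bxy : bx * by' = fv 5 := by decide +kernel

theorem three_pow : ∀ k : Fin 7, k ≠ 0 → (swap (0 : Fin 7) 1 * swap 0 k) ^ 3 = (1 : Perm (Fin 7)) := by decide +kernel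

/-- `fv i` as an element of `A₇` -/
def fa (i : Fin 7) : A7 := ⟨fv i, fv_mem i⟩

section
variable {F : Type u} [Field F] [Finite F] {H : Subgroup ↥(chevE7.group F)} {φ : A7 →* ↥(chevE7.group F)}

/-- the lift of order 5 of `fv i` has 16 fixed weights -/
theorem ev16 (h5 : (5 : F) ≠ 0) (hM : MaxAlt H 7 φ) {i : Fin 7} (hi : i ≠ 0) {X : Gh F} (hX : X ^ 5 = 1)
    (hXx : ad F X = φ (fa i)) : ev (V F X) 1 = 16 := by
  obtain ⟨g, hg⟩ := ad_surjective (φ ⟨cj i, cj_mem i⟩)
  refine Cfsg.Agent.R2.T1.Odd.five_rat h5 (g := g) hX ?_ ?_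
  · rintro rfl
    rw [map_one] at hXx
    apply fv_ne i hi
    have h1 : φ (fa i) = φ 1 := by rw [← hXx, map_one]
    exact congrArg Subtype.val (hM.inj h1)
  · apply odd_unique (k := 5) (by decide)
    · rw [map_mul, map_mul, map_inv, hg, hXx, ← map_inv, ← map_mul, ← map_mul, map_pow, hXx, ← map_pow]
      congr 1
      exact Subtype.ext (fv_cj i)
    · rw [← MulAut.conj_apply, ← map_pow, hX, map_one]
    · rw [← pow_mul, mul_comm, pow_mul, hX, one_pow]

/-- the involution attached to `fv i` -/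
theorem tau_i (h2 : (2 : F) ≠ 0) (h5 : (5 : F) ≠ 0) (hM : MaxAlt H 7 φ)
    (hne : Representation.invariants (MonoidHom.comp (LK F) φ) ≠ ⊥) {i : Fin 7} (hi : i ≠ 0) {X : Gh F} (hX : X ^ 5 = 1)
    (hXx : ad F X = φ (fa i)) : ∃ τ : Gh F, ad F τ ∈ H ∧ (∀ v, V F X v = v → V F τ v = -v) ∧
      ∀ c d : A7, (d : Perm (Fin 7)) = swap 0 i * c * (swap 0 i)⁻¹ → ad F τ * φ c * (ad F τ)⁻¹ = φ d :=
  tau7 h2 h5 hM hne (x := fa i) (a := 0) (b := i) (y0 := y0 i) hi.symm (fv_zero i) (fv_self i) (fv_cov i hi)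
    (fv_five i) (fun k h1 h3 => fv_mv i hi k h3 h1) hX hXx (ev16 h5 hM hi hX hXx)

/-- **an element of `H` induces a transposition** if `A₇` has a fixed vector on the adjoint module (lift or cover) -/
theorem exists_swap (h2 : (2 : F) ≠ 0) (h5 : (5 : F) ≠ 0) (hM : MaxAlt H 7 φ)
    (hne : Representation.invariants (MonoidHom.comp (LK F) φ) ≠ ⊥) :
    ∃ h ∈ H, ∀ c d : A7, (d : Perm (Fin 7)) = swap (0 : Fin 7) 1 * (c : Perm (Fin 7)) * (swap (0 : Fin 7) 1)⁻¹ →
      h * φ c * h⁻¹ = φ d := by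
  have h1 : φ (fa 1) ^ 5 = 1 := by
    rw [← map_pow]
    have : fa 1 ^ 5 = 1 := Subtype.ext (fv_five 1)
    rw [this, map_one]
  obtain ⟨X, hX1, hX⟩ := odd_lift (k := 5) (by decide) h1
  obtain ⟨τ, e1, -, e3⟩ := tau_i h2 h5 hM hne (i := 1) (by decide) hX hX1
  exact ⟨_, e1, e3⟩

end

/-! ### the lift in characteristic 3 -/

section
variable {F : Type u} [Field F] [Finite F] {H : Subgroup ↥(chevE7.group F)} {φ : A7 →* ↥(chevE7.group F)}
  {ψ : A7 →* Gh F}

/-- a fixed vector of the subgroup `PSL₂(5)` -/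
theorem exists_fixed (h3 : (3 : F) = 0) (hM : MaxAlt H 7 φ) (hL : Lift φ ψ) : ∃ v : D1 → F, v ≠ 0 ∧
    V F (ψ ⟨bx, bx_mem⟩) v = v ∧ V F (ψ ⟨by', by_mem⟩) v = v := by
  have h2 : (2 : F) ≠ 0 := by
    intro h
    apply one_ne_zero (α := F)
    linear_combination h3 - h
  have h5 : (5 : F) ≠ 0 := by
    intro h
    apply h2
    linear_combination h - h3
  set x : A7 := ⟨bx, bx_mem⟩ with hx
  set y : A7 := ⟨by', by_mem⟩ with hy
  set B : Subgroup A7 := Subgroup.closure {x, y} with hB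
  have hxB : x ∈ B := Subgroup.subset_closure (by simp)
  have hyB : y ∈ B := Subgroup.subset_closure (by simp)
  set ρ : Representation F ↥B (D1 → F) := MonoidHom.comp (MonoidHom.comp (V F) ψ) B.subtype with hρ
  have hcl : Subgroup.closure {(⟨x, hxB⟩ : ↥B), ⟨y, hyB⟩} = ⊤ := by
    have h1 := Subgroup.closure_closure_coe_preimage (k := ({x, y} : Set A7))
    rw [← h1]
    congr 1
    ext ⟨z, hz⟩
    simp only [Set.mem_insert_iff, Set.mem_singleton_iff, Set.mem_preimage, Subtype.mk.injEq]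
  have h := Cfsg.Agent.H952.F4.Scott.scott_form ρ (x := ⟨x, hxB⟩) (y := ⟨y, hyB⟩) hcl (sf F)
    (fun v hv => sf_nondeg' hv) (fun g v w => sf_V _ v w)
  rw [finrank_V] at h
  have e1 : ev (ρ ⟨x, hxB⟩) 1 = ev (V F (ψ x)) 1 := rfl
  have e2 : ev (ρ ⟨y, hyB⟩) 1 = ev (V F (ψ y)) 1 := rfl
  have e3 : ev (ρ (⟨x, hxB⟩ * ⟨y, hyB⟩)) 1 = ev (V F (ψ (x * y))) 1 := rfl
  have e4 : x * y = fa 5 := Subtype.ext bxy
  have n1 : 24 ≤ ev (V F (ψ x)) 1 := by
    have h6 := (two h2 (x := ψ x) (by rw [← map_mul, show x * x = 1 from Subtype.ext bx_two, map_one]) (by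
      rw [hL x]
      intro h7
      apply bx_ne
      have h8 : φ x = φ 1 := by rw [h7, map_one]
      exact congrArg Subtype.val (hM.inj h8))).1
    omega
  have n2 : 19 ≤ ev (V F (ψ y)) 1 := by
    have h6 := ev_cube h3 (T := V F (ψ y)) (by rw [← map_pow, ← map_pow, show y ^ 3 = 1 from Subtype.ext by_three,
      map_one, map_one])
    rw [finrank_V] at h6
    omega
  have n3 : ev (V F (ψ (x * y))) 1 = 16 := by
    rw [e4]
    exact ev16 h5 hM (i := 5) (by decide) (by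
      rw [← map_pow, show fa 5 ^ 5 = 1 from Subtype.ext (fv_five 5), map_one]) (hL _)
  rw [e1, e2, e3, n3] at h
  have h6 : ρ.invariants ≠ ⊥ := by
    intro h7
    rw [h7, finrank_bot] at h
    omega
  obtain ⟨v, hv, hv0⟩ := Submodule.exists_mem_ne_zero_of_ne_bot h6
  rw [Representation.mem_invariants] at hv
  exact ⟨v, hv0, hv ⟨x, hxB⟩, hv ⟨y, hyB⟩⟩

omit [Finite F] in
theorem inv_eq (hL : Lift φ ψ) : Representation.invariants (MonoidHom.comp (L F) ψ) =
    Representation.invariants (MonoidHom.comp (LK F) φ) := by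
  ext w
  rw [Representation.mem_invariants, Representation.mem_invariants]
  refine forall_congr' fun a => ?_
  show L F (ψ a) w = w ↔ LK F (φ a) w = w
  rw [L_eq, hL a]

/-- **characteristic 3, lift: no fixed vector on the adjoint module** -/
theorem no_inv7 (h3 : (3 : F) = 0) (hM : MaxAlt H 7 φ) (hL : Lift φ ψ) :
    Representation.invariants (MonoidHom.comp (L F) ψ) = ⊥ := by
  rw [inv_eq hL]
  by_contra hne
  have h2 : (2 : F) ≠ 0 := by
    intro h
    apply one_ne_zero (α := F)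
    linear_combination h3 - h
  have h5 : (5 : F) ≠ 0 := by
    intro h
    apply h2
    linear_combination h - h3
  obtain ⟨v, hv0, hvx, hvy⟩ := exists_fixed h3 hM hL
  -- the stabilizer of `v`
  let S : Subgroup A7 :=
    { carrier := {g | V F (ψ g) v = v}
      one_mem' := by
        show V F (ψ 1) v = v
        rw [map_one, V_one]
      mul_mem' := by
        intro g h hg hh
        show V F (ψ (g * h)) v = v
        have hg' : V F (ψ g) v = v := hg
        have hh' : V F (ψ h) v = v := hh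
        rw [map_mul, V_mul, hh', hg']
      inv_mem' := by
        intro g hg
        show V F (ψ g⁻¹) v = v
        have hg' : V F (ψ g) v = v := hg
        conv_lhs => rw [← hg']
        rw [map_inv, V_inv] }
  have memS : ∀ g, g ∈ S ↔ V F (ψ g) v = v := fun g => Iff.rfl
  have hfa : ∀ i, fa i ∈ S := by
    intro i
    have h1 : fv i ∈ S.map (alternatingGroup (Fin 7)).subtype :=
      Cfsg.Agent.H952.F4.Gen.ev_mem (H := S.map (alternatingGroup (Fin 7)).subtype)
        ⟨⟨bx, bx_mem⟩, hvx, rfl⟩ ⟨⟨by', by_mem⟩, hvy, rfl⟩ (wd i)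
    obtain ⟨g, hg, h4⟩ := h1
    have h6 : fa i = g := Subtype.ext h4.symm
    rw [h6]
    exact hg
  have htau : ∀ i : Fin 7, i ≠ 0 → ∃ τ : Gh F, ad F τ ∈ H ∧ V F τ v = -v ∧
      ∀ c d : A7, (d : Perm (Fin 7)) = swap 0 i * c * (swap 0 i)⁻¹ → ad F τ * φ c * (ad F τ)⁻¹ = φ d := by
    intro i hi
    obtain ⟨τ, e1, e2, e3⟩ := tau_i h2 h5 hM hne hi (X := ψ (fa i)) (by
      rw [← map_pow, show fa i ^ 5 = 1 from Subtype.ext (fv_five i), map_one]) (hL _)
    exact ⟨τ, e1, e2 v (hfa i), e3⟩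
  obtain ⟨τ1, -, a2, a3⟩ := htau 1 (by decide)
  have hc : ∀ k : Fin 7, k ≠ 0 → swap (0 : Fin 7) 1 * swap 0 k ∈ S.map (alternatingGroup (Fin 7)).subtype := by
    intro k hk
    obtain ⟨τ, -, b2, b3⟩ := htau k hk
    have hmem : swap (0 : Fin 7) 1 * swap 0 k ∈ alternatingGroup (Fin 7) := by
      rw [mem_alternatingGroup, Perm.sign_mul, sign_swap (by decide), sign_swap hk.symm]
      decide
    set c : A7 := ⟨swap (0 : Fin 7) 1 * swap 0 k, hmem⟩ with hcdef
    have h1 : ad F (τ1 * τ) = φ c := by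
      have h4 : (φ c)⁻¹ * ad F (τ1 * τ) = 1 := by
        apply centralizer_eq hM (by norm_num)
        intro a
        have h6 := b3 a ⟨swap 0 k * (a : Perm (Fin 7)) * (swap 0 k)⁻¹, conj_mem a.2⟩ rfl
        have h7 := a3 ⟨swap 0 k * (a : Perm (Fin 7)) * (swap 0 k)⁻¹, conj_mem a.2⟩
          ⟨swap (0 : Fin 7) 1 * (swap 0 k * (a : Perm (Fin 7)) * (swap 0 k)⁻¹) * (swap (0 : Fin 7) 1)⁻¹, conj_mem (conj_mem a.2)⟩ rfl
        rw [← h6] at h7
        have h8 : (⟨swap (0 : Fin 7) 1 * (swap 0 k * (a : Perm (Fin 7)) * (swap 0 k)⁻¹) * (swap (0 : Fin 7) 1)⁻¹, conj_mem (conj_mem a.2)⟩ : A7) =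
            c * a * c⁻¹ := by
          apply Subtype.ext
          show swap (0 : Fin 7) 1 * (swap 0 k * (a : Perm (Fin 7)) * (swap 0 k)⁻¹) * (swap (0 : Fin 7) 1)⁻¹ =
            (swap (0 : Fin 7) 1 * swap 0 k) * (a : Perm (Fin 7)) * (swap (0 : Fin 7) 1 * swap 0 k)⁻¹
          group
        rw [h8, map_mul, map_mul, map_inv] at h7
        rw [map_mul]
        symm
        calc (φ c)⁻¹ * (ad F τ1 * ad F τ) * φ a
            = (φ c)⁻¹ * (ad F τ1 * (ad F τ * φ a * (ad F τ)⁻¹) * (ad F τ1)⁻¹) * (ad F τ1 * ad F τ) := by group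
          _ = (φ c)⁻¹ * (φ c * φ a * (φ c)⁻¹) * (ad F τ1 * ad F τ) := by rw [h7]
          _ = φ a * ((φ c)⁻¹ * (ad F τ1 * ad F τ)) := by group
      rw [inv_mul_eq_one] at h4
      exact h4.symm
    have h4 : V F (τ1 * τ) v = v := by rw [V_mul, b2, map_neg, a2, _root_.neg_neg]
    refine ⟨c, ?_, rfl⟩
    rw [SetLike.mem_coe, memS]
    have h6 : ad F (ψ c) = ad F (τ1 * τ) := by rw [hL c, h1]
    rcases ad_eq_iff.1 h6 with h7 | h7
    · rw [h7, h4]
    · exfalso
      have h8 : V F (ψ c) v = -v := by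
        rw [h7, LinearMap.neg_apply, h4]
      have h9 : c ^ 3 = 1 := by
        apply Subtype.ext
        exact three_pow k hk
      have h10 : V F (ψ (c ^ 3)) v = -v := by
        have h12 : ψ (c ^ 3) = ψ c * (ψ c * ψ c) := by rw [← map_mul, ← map_mul, pow_succ, pow_two, mul_assoc]
        rw [h12, V_mul, V_mul, h8, map_neg, h8, _root_.neg_neg, h8]
      rw [h9, map_one, V_one] at h10
      apply hv0
      have h11 : (2 : F) • v = 0 := by
        rw [two_smul]
        nth_rewrite 1 [h10]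
        exact neg_add_cancel v
      exact (smul_eq_zero.1 h11).resolve_left h2
  have hall : ∀ g : A7, g ∈ S := by
    intro g
    have h1 := Cfsg.Agent.H952.F4.Gen.mem_of_star (n := 5) (S.map (alternatingGroup (Fin 7)).subtype)
      (by rintro _ ⟨g, -, rfl⟩; exact g.2) hc g.2
    obtain ⟨g', hg', h4⟩ := h1
    have h6 : g = g' := Subtype.ext h4.symm
    rw [h6]
    exact hg'
  have h6 := no_fixed hM (by norm_num) (by norm_num) hL
  have h7 : v ∈ Representation.invariants (MonoidHom.comp (V F) ψ) := by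
    rw [Representation.mem_invariants]
    exact fun a => hall a
  rw [h6, Submodule.mem_bot] at h7
  exact hv0 h7

end

end Cfsg.Agent.R2.T1.N7.Tau
end
end

-- part: R2/T1/N7C/Three0
section
prune_inst 0x10200100650000000000051000000040600000020000080000a00800010920600900804006a00014920a88002001000000000110000000000000000000010000900012020040a100600011000084000000000000000000000000000000000000000000000
set_option linter.all false
open scoped Cfsg.Agent.FastGrp

-- part: R2/T1/N7C/Eight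
section
/-!
# S5929, box sev3c: elements of order 8 and 7 on the adjoint module (helper5)

* `eight_L` : if `x ^ 4 = -1` on the module of degree 56: the dimensions of the fixed points of `x`, `x ^ 2` on the
  adjoint module;
* `seven_L` : elements of order 7 conjugate to their squares.
-/

set_option autoImplicit false
set_option maxRecDepth 100000

universe u v

namespace Cfsg.Agent.R2.T1.N7C

open Cfsg Cfsg.Lie Module
open Cfsg.Agent.H943.E7V.Block (D1 rho)
open Cfsg.Agent.H952.F4 (ev es)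
open Cfsg.Agent.R2.T1 Cfsg.Agent.R2.T1.Odd Cfsg.Agent.R2.T1.N6B Cfsg.Agent.R2.T1.Pat2

/-- the property of the rows of order 8 -/
def Q8 (m l : ℕ → ℕ) : Bool := !(Nat.beq (m 0) 0 && Nat.beq (m 2) 0 && Nat.beq (m 4) 0) ||
  ((Nat.beq (l 0) 79 && Nat.beq (l 4) 0) || (Nat.beq (l 0) 49 && Nat.beq (l 4) 14) ||
   (Nat.beq (l 0) 47 && Nat.beq (l 4) 32) || (Nat.beq (l 0) 33 && Nat.beq (l 4) 30) ||
   (Nat.beq (l 0) 39 && Nat.beq (l 4) 40))

theorem chkQ8 : chkQ 8 Q8 = true := by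
  delta chkQ
  rw [Fq.cV_eq (N := 8) (by decide), Fq.cL_eq (N := 8) (by decide)]
  decide +kernel

section
variable {F : Type u} [Field F] [Finite F]

theorem eight_L (h2 : (2 : F) ≠ 0) {x : Gh F} (hx : V F (x ^ 4) = -1) :
    (ev (L F x) 1 = 79 ∧ ev (L F x) (-1) = 0 ∧ ev (L F (x ^ 2)) 1 = 79) ∨
    (ev (L F x) 1 = 49 ∧ ev (L F x) (-1) = 14 ∧ ev (L F (x ^ 2)) 1 = 63) ∨
    (ev (L F x) 1 = 47 ∧ ev (L F x) (-1) = 32 ∧ ev (L F (x ^ 2)) 1 = 79) ∨
    (ev (L F x) 1 = 33 ∧ ev (L F x) (-1) = 30 ∧ ev (L F (x ^ 2)) 1 = 63) ∨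
    (ev (L F x) 1 = 39 ∧ ev (L F x) (-1) = 40 ∧ ev (L F (x ^ 2)) 1 = 79) := by
  have h8 : x ^ 8 = 1 := sq_one hx
  have h8F : ((8 : ℕ) : F) ≠ 0 := two_pow_ne h2 3
  obtain ⟨p, hpp, hp, hcop⟩ := exists_char h8F
  obtain ⟨ζ, hζ, m, l, hQ, h1⟩ := patQ chkQ8 (by norm_num) p hcop h8
  set f := algebraMap F (AlgebraicClosure F) with hf
  have h2K : (2 : AlgebraicClosure F) ≠ 0 := by
    have h := (map_ne_zero f).2 h2
    rwa [map_ofNat] at h
  have hζ4 : ζ ^ 4 = -1 := by
    have h6 : ζ ^ 4 * ζ ^ 4 = 1 := by rw [← pow_add]; exact hζ.pow_eq_one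
    rcases mul_self_eq_one_iff.1 h6 with h7 | h7
    · exact absurd h7 (hζ.pow_ne_one_of_pos_of_lt (by norm_num) (by norm_num))
    · exact h7
  have hk := emb_neg f h2 hx
  rw [map_pow] at hk
  have e0 := (h1 0 (by norm_num)).1
  have e2 := (h1 2 (by norm_num)).1
  have e4 := (h1 4 (by norm_num)).1
  have l0 := (h1 0 (by norm_num)).2
  have l4 := (h1 4 (by norm_num)).2
  rw [ev_zero_of h2K hk (by rw [pow_zero, one_pow])] at e0
  rw [ev_zero_of h2K hk (by rw [← pow_mul, show 4 * 4 = 8 * 2 by norm_num, pow_mul, hζ.pow_eq_one, one_pow])] at e4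
  rw [ev_zero_of h2K hk (by rw [← pow_mul, show 2 * 4 = 8 by norm_num, hζ.pow_eq_one])] at e2
  rw [pow_zero, ev_L_one] at l0
  have l4' : ev (L F x) (-1) = l 4 := by
    rw [← l4, hζ4]
    exact (ev_L_neg_one f x).symm
  have hs : ev (L F (x ^ 2)) 1 = ev (L F x) 1 + ev (L F x) (-1) := by
    rw [map_pow]
    exact E5.ev_sq h2 _
  rw [hs, l0, l4']
  unfold Q8 at hQ
  simp only [← e0, ← e2, ← e4, Nat.beq_refl, Bool.and_self, Bool.not_true, Bool.false_or, Bool.or_eq_true, Bool.and_eq_true,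
    Nat.beq_eq] at hQ
  rcases hQ with (((⟨a, b⟩ | ⟨a, b⟩) | ⟨a, b⟩) | ⟨a, b⟩) | ⟨a, b⟩ <;> rw [a, b] <;> decide

omit [Finite F] in
/-- the powers of `w`, `w ^ 4 = 1`, applied to an eigenspace of `x` -/
theorem orb_le {K : Type u} [Field K] {M : Type v} [AddCommGroup M] [Module K M] [FiniteDimensional K M]
    {X W : Module.End K M} (hXW : ∀ v, X (W v) = W (X (X (X v)))) (hW : ∀ v, W (W (W (W v))) = v) {η : K}
    (hη : IsPrimitiveRoot η 5) : ev X η ≤ ev W (-1) := by
  have hne : ∀ i j : ℕ, i < 5 → j < 5 → i ≠ j → η ^ i - η ^ j ≠ 0 := fun i j hi hj hij =>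
    sub_ne_zero.2 fun h => hij (hη.pow_inj hi hj h)
  have hη5 := hη.pow_eq_one
  let T : M →ₗ[K] M := 1 - W + W * W - W * W * W
  have hT : ∀ v, T v = v - W v + W (W v) - W (W (W v)) := fun _ => rfl
  have hmem : ∀ v, T v ∈ Module.End.eigenspace W (-1) := by
    intro v
    rw [Module.End.mem_eigenspace_iff, hT, map_sub, map_add, map_sub, hW, neg_one_smul]
    abel
  let S : ↥(Module.End.eigenspace X η) →ₗ[K] ↥(Module.End.eigenspace W (-1)) :=
    (T.comp (Module.End.eigenspace X η).subtype).codRestrict _ fun v => hmem v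
  refine LinearMap.finrank_le_finrank_of_injective (f := S) ?_
  rw [injective_iff_map_eq_zero]
  rintro ⟨a, ha⟩ h
  have h0 : T a = 0 := congrArg Subtype.val h
  rw [hT] at h0
  rw [Module.End.mem_eigenspace_iff] at ha
  have key : ∀ (μ : K) (u : M), X u = μ • u → X (W u) = μ ^ 3 • W u := by
    intro μ u hu
    have e1 : X (X (X u)) = μ ^ 3 • u := by
      rw [hu, map_smul, hu, map_smul, map_smul, hu, smul_smul, smul_smul]
      congr 1
      ring
    rw [hXW, e1, map_smul]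
  have h1 : X (W a) = η ^ 3 • W a := key η a ha
  have h2 : X (W (W a)) = η ^ 4 • W (W a) := by
    rw [key _ _ h1]
    congr 1
    linear_combination η ^ 4 * hη5
  have h3 : X (W (W (W a))) = η ^ 2 • W (W (W a)) := by
    rw [key _ _ h2]
    congr 1
    linear_combination η ^ 2 * (η ^ 5 + 1) * hη5
  generalize W a = b at *
  generalize W b = c at *
  generalize W c = d at *
  have e1 : X a - X b + X c - X d = 0 := by rw [← map_sub, ← map_add, ← map_sub, h0, map_zero]
  have e2 : X (X a) - X (X b) + X (X c) - X (X d) = 0 := by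
    rw [← map_sub, ← map_add, ← map_sub, e1, map_zero]
  have e3 : X (X (X a)) - X (X (X b)) + X (X (X c)) - X (X (X d)) = 0 := by
    rw [← map_sub, ← map_add, ← map_sub, e2, map_zero]
  simp only [ha, h1, h2, h3, map_smul, smul_smul] at e1 e2 e3
  have h4 : ((η - η ^ 3) * (η - η ^ 4) * (η - η ^ 2)) • a = 0 := by
    linear_combination (norm := module) e3 - (η ^ 3 + η ^ 4 + η ^ 2) • e2 + (η ^ 3 * η ^ 4 + η ^ 3 * η ^ 2 + η ^ 4 * η ^ 2) • e1 -
      (η ^ 3 * η ^ 4 * η ^ 2) • h0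
  have h5 : (η - η ^ 3) * (η - η ^ 4) * (η - η ^ 2) ≠ 0 := by
    have a1 := hne 1 3 (by norm_num) (by norm_num) (by norm_num)
    have a2 := hne 1 4 (by norm_num) (by norm_num) (by norm_num)
    have a3 := hne 1 2 (by norm_num) (by norm_num) (by norm_num)
    rw [pow_one] at a1 a2 a3
    exact mul_ne_zero (mul_ne_zero a1 a2) a3
  exact Subtype.ext ((smul_eq_zero.1 h4).resolve_left h5)

/-- **elements of order 5 conjugate to their squares** -/
theorem five_L (h5 : (5 : F) ≠ 0) {x g : Gh F} (hx : x ^ 5 = 1) (hx1 : x ≠ 1) (hg : g * x * g⁻¹ = x ^ 2) :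
    ev (V F x) 1 = 16 ∧ ev (L F x) 1 = 33 ∧ ∃ ζ : AlgebraicClosure F, IsPrimitiveRoot ζ 5 ∧
      ev (L (AlgebraicClosure F) (emb (algebraMap F (AlgebraicClosure F)) x)) ζ = 25 := by
  have h5' : ((5 : ℕ) : F) ≠ 0 := by exact_mod_cast h5
  obtain ⟨p, hpp, hp, hcop⟩ := exists_char h5'
  obtain ⟨ζ, hζ, P, hP, h1⟩ := pat chk5 (by norm_num) p hcop hx
  have e1 := ev_rat (V (AlgebraicClosure F)) (N := 5) (a := 2) (b := 3) (emb_pow_one (algebraMap F _) hx) hζ.pow_eq_one
    (by norm_num) (by norm_num) (emb_rat _ hg) 1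
  have h2 := (h1 1 (by norm_num)).1
  have h2' := (h1 1 (by norm_num)).2
  have h3 := (h1 3 (by norm_num)).1
  have h0 := (h1 0 (by norm_num)).1
  have h0' := (h1 0 (by norm_num)).2
  rw [pow_zero, ev_V_one] at h0
  rw [pow_zero, ev_L_one] at h0'
  rw [h2, one_mul, h3] at e1
  have key : ∀ P ∈ T5, P.1.getD 0 0 = 56 ∨ (P.1.getD 0 0 = 16 ∧ P.2.getD 0 0 = 33 ∧ P.2.getD 1 0 = 25) ∨
      P.1.getD 1 0 ≠ P.1.getD 3 0 := by decide
  rcases key P hP with h | ⟨a, b, c⟩ | h
  · exact absurd (eq_one_of_ev (h0.trans h)) hx1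
  · refine ⟨by rw [h0, a], by rw [h0', b], ζ, hζ, ?_⟩
    rw [pow_one] at h2'
    rw [h2', c]
  · exact absurd e1 h

/-- **elements of order 8 normalizing a subgroup of order 5** -/
theorem eight_five (h2 : (2 : F) ≠ 0) (h5 : (5 : F) ≠ 0) {x w : Gh F} (hw : V F (w ^ 4) = -1) (hx : x ^ 5 = 1) (hx1 : x ≠ 1)
    (hg : w * x * w⁻¹ = x ^ 2) :
    (ev (L F w) 1 = 47 ∧ ev (L F (w ^ 2)) 1 = 79) ∨ (ev (L F w) 1 = 33 ∧ ev (L F (w ^ 2)) 1 = 63) ∨
    (ev (L F w) 1 = 39 ∧ ev (L F (w ^ 2)) 1 = 79) := by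
  obtain ⟨-, -, ζ, hζ, h25⟩ := five_L h5 hx hx1 hg
  set f := algebraMap F (AlgebraicClosure F) with hf
  have hxw : x * w = w * (x * (x * x)) := by
    have e1 : w * (x * (x * x)) * w⁻¹ = x := by
      calc w * (x * (x * x)) * w⁻¹ = (w * x * w⁻¹) ^ 3 := by
            rw [conj_pow]
            congr 2
            rw [pow_succ, pow_succ, pow_one, mul_assoc]
        _ = x := by rw [hg, ← pow_mul, show 2 * 3 = 5 + 1 by norm_num, pow_add, hx, one_mul, pow_one]
    rw [mul_inv_eq_iff_eq_mul] at e1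
    exact e1.symm
  have had : ad F (w ^ 4) = 1 := ad_eq_one_iff.2 (Or.inr hw)
  have hle := orb_le (X := L (AlgebraicClosure F) (emb f x)) (W := L (AlgebraicClosure F) (emb f w))
    (fun v => by
      rw [← Module.End.mul_apply, ← map_mul, ← map_mul, hxw]
      simp only [map_mul]
      rfl)
    (fun v => by
      have e1 : ad (AlgebraicClosure F) (emb f (w ^ 4)) = 1 := (ad_emb_eq_one_iff f _).2 had
      have e2 : L (AlgebraicClosure F) (emb f (w ^ 4)) = 1 := by rw [L_eq, e1, map_one]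
      have e3 : L (AlgebraicClosure F) (emb f (w ^ 4)) v = v := by rw [e2]; rfl
      have e4 : w ^ 4 = w * (w * (w * w)) := by simp only [pow_succ, pow_zero, one_mul, mul_assoc]
      rw [e4] at e3
      simp only [map_mul] at e3
      exact e3) hζ
  rw [h25, ev_L_neg_one] at hle
  have h8 := eight_L h2 hw
  omega

/-- **elements of order 7 conjugate to their squares** -/
theorem seven_L (h7 : (7 : F) ≠ 0) {x g : Gh F} (hx : x ^ 7 = 1) (hx1 : x ≠ 1) (hg : g * x * g⁻¹ = x ^ 2) :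
    (ev (V F x) 1 = 2 ∧ ev (L F x) 1 = 31) ∨ (ev (V F x) 1 = 8 ∧ ev (L F x) 1 = 19) ∨
      (ev (V F x) 1 = 20 ∧ ev (L F x) 1 = 37) := by
  have h7' : ((7 : ℕ) : F) ≠ 0 := by exact_mod_cast h7
  obtain ⟨p, hpp, hp, hcop⟩ := exists_char h7'
  obtain ⟨ζ, hζ, P, hP, h1⟩ := pat chk7 (by norm_num) p hcop hx
  have hm : ∀ j, ζ ^ j = ζ ^ (j % 7) := fun j => pow_mod_eq hζ j
  have eV := fun k => ev_rat (V (AlgebraicClosure F)) (N := 7) (a := 2) (b := 4) (emb_pow_one (algebraMap F _) hx)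
    hζ.pow_eq_one (by norm_num) (by norm_num) (emb_rat _ hg) k
  have e1 := eV 1
  have e2 := eV 4
  have e3 := eV 3
  rw [one_mul, (h1 1 (by norm_num)).1, (h1 4 (by norm_num)).1] at e1
  rw [hm (4 * 4), (h1 4 (by norm_num)).1, (h1 2 (by norm_num)).1] at e2
  rw [hm (3 * 4), (h1 3 (by norm_num)).1, (h1 5 (by norm_num)).1] at e3
  have h0 := (h1 0 (by norm_num)).1
  have h0' := (h1 0 (by norm_num)).2
  rw [pow_zero, ev_V_one] at h0
  rw [pow_zero, ev_L_one] at h0'
  have key : ∀ P ∈ T7, P.1.getD 1 0 = P.1.getD 4 0 → P.1.getD 4 0 = P.1.getD 2 0 → P.1.getD 3 0 = P.1.getD 5 0 →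
      P.1.getD 0 0 = 56 ∨ (P.1.getD 0 0 = 2 ∧ P.2.getD 0 0 = 31) ∨ (P.1.getD 0 0 = 8 ∧ P.2.getD 0 0 = 19) ∨
      (P.1.getD 0 0 = 20 ∧ P.2.getD 0 0 = 37) := by decide
  rw [h0, h0']
  rcases key P hP e1 e2 e3 with h | h
  · exact absurd (eq_one_of_ev (h0.trans h)) hx1
  · exact h

end

end Cfsg.Agent.R2.T1.N7C
end

-- part: R2/T1/N7C/Three0
section
/-!
# S5929, box sev3c: `n = 7`, cover, characteristic 3: reduction (helper5)

* `rows` : the dimensions of the fixed points on the adjoint module of elements of order 2, 4, 5, 7;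
* `sev3c_of` : there are fixed points on the adjoint module.
-/

set_option autoImplicit false
set_option maxRecDepth 100000

universe u v

namespace Cfsg.Agent.R2.T1.N7C

open Equiv Equiv.Perm Cfsg Cfsg.Lie Module
open Cfsg.Agent.H943.E7V.Block (D1 rho)
open Cfsg.Agent.H952.F4 (ev es MaxAlt)
open Cfsg.Agent.H944.E6T (ev_conj)
open Cfsg.Agent.R2.T1

/-- conjugation of a relation `w r w⁻¹ = r ^ 2` -/
theorem conj_rel {n : ℕ} {r w : Perm (Fin n)} (σ : Perm (Fin n)) (hr : sign r = 1) (hw : sign w = 1)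
    (h : w * r * w⁻¹ = r ^ 2) : ∃ r' w' : ↥(alternatingGroup (Fin n)), (r' : Perm (Fin n)) = σ * r * σ⁻¹ ∧
      (w' : Perm (Fin n)) = σ * w * σ⁻¹ ∧ w' * r' * w'⁻¹ = r' ^ 2 := by
  refine ⟨⟨σ * r * σ⁻¹, ?_⟩, ⟨σ * w * σ⁻¹, ?_⟩, rfl, rfl, Subtype.ext ?_⟩
  · rw [mem_alternatingGroup, map_mul, map_mul, map_inv, hr, mul_one, mul_inv_cancel]
  · rw [mem_alternatingGroup, map_mul, map_mul, map_inv, hw, mul_one, mul_inv_cancel]
  · show σ * w * σ⁻¹ * (σ * r * σ⁻¹) * (σ * w * σ⁻¹)⁻¹ = (σ * r * σ⁻¹) ^ 2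
    rw [conj_pow, ← h]
    group

/-- the representatives -/
def r5 : Perm (Fin 7) := swap 0 1 * swap 1 2 * (swap 2 3 * swap 3 4)
def w5 : Perm (Fin 7) := swap 1 2 * swap 2 4 * swap 4 3 * swap 5 6
def r7 : Perm (Fin 7) := swap 0 1 * swap 1 2 * (swap 2 3 * swap 3 4) * (swap 4 5 * swap 5 6)
def w7 : Perm (Fin 7) := swap 1 2 * swap 2 4 * (swap 3 6 * swap 6 5)

theorem r5_sign : sign r5 = 1 := by decide
theorem w5_sign : sign w5 = 1 := by decide
theorem r7_sign : sign r7 = 1 := by decide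
theorem w7_sign : sign w7 = 1 := by decide
theorem rel5 : w5 * r5 * w5⁻¹ = r5 ^ 2 := by decide
theorem rel7 : w7 * r7 * w7⁻¹ = r7 ^ 2 := by decide
theorem w5_type : w5.cycleType = {4, 2} := by decide +kernel
theorem r5_type : r5.cycleType = {5} := by decide +kernel
theorem r7_type : r7.cycleType = {7} := by decide +kernel
theorem w5_sq_type : (w5 * w5).cycleType = {2, 2} := by decide +kernel

variable {F : Type u} [Field F]

/-- lifts of odd order of `r`, `w r w⁻¹ = r ^ 2` -/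
theorem lift_rel {n : ℕ} {φ : ↥(alternatingGroup (Fin n)) →* ↥(chevE7.group F)} (hφ : Function.Injective φ)
    {k : ℕ} (hk : Odd k) {r w : ↥(alternatingGroup (Fin n))} (hr : r ^ k = 1) (hr1 : r ≠ 1) (hw : w * r * w⁻¹ = r ^ 2)
    {W : Gh F} (hW : ad F W = φ w) : ∃ R : Gh F, ad F R = φ r ∧ R ^ k = 1 ∧ R ≠ 1 ∧ W * R * W⁻¹ = R ^ 2 := by
  obtain ⟨R, hR, hRk⟩ := odd_lift (k := k) (g := φ r) hk (by rw [← map_pow, hr, map_one])
  refine ⟨R, hR, hRk, ?_, ?_⟩
  · rintro rfl
    rw [map_one] at hR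
    exact hr1 (hφ (by rw [← hR, map_one]))
  · refine odd_unique (k := k) hk ?_ ?_ ?_
    · rw [map_mul, map_mul, map_inv, map_pow, hW, hR, ← map_pow, ← hw, map_mul, map_mul, map_inv]
    · rw [conj_pow, hRk, mul_one, mul_inv_cancel]
    · rw [← pow_mul, mul_comm, pow_mul, hRk, one_pow]

variable [Finite F]

/-- **the rows**, cover, characteristic prime to 2, 5, 7 -/
theorem rows {φ : ↥(alternatingGroup (Fin 7)) →* ↥(chevE7.group F)} (hφ : Function.Injective φ) (hc : Cover φ)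
    (h2 : (2 : F) ≠ 0) (h5 : (5 : F) ≠ 0) (h7 : (7 : F) ≠ 0) :
    (∀ x : ↥(alternatingGroup (Fin 7)), (x : Perm (Fin 7)).cycleType = {5} →
      (∀ X : Gh F, ad F X = φ x → X ^ 5 = 1 → ev (V F X) 1 = 16) ∧ ev (LK F (φ x)) 1 = 33) ∧
    (∀ z : ↥(alternatingGroup (Fin 7)), (z : Perm (Fin 7)).cycleType = {7} →
      ev (LK F (φ z)) 1 = 31 ∨ ev (LK F (φ z)) 1 = 19 ∨ ev (LK F (φ z)) 1 = 37) ∧
    (∀ x y : ↥(alternatingGroup (Fin 7)), (x : Perm (Fin 7)).cycleType = {2, 2} → (y : Perm (Fin 7)).cycleType = {4, 2} →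
      (ev (LK F (φ x)) 1 = 79 ∧ (ev (LK F (φ y)) 1 = 47 ∨ ev (LK F (φ y)) 1 = 39)) ∨
      (ev (LK F (φ x)) 1 = 63 ∧ ev (LK F (φ y)) 1 = 33)) := by
  refine ⟨?_, ?_, ?_⟩
  · intro x hx
    obtain ⟨σ, hσ⟩ := isConj_iff.1 (isConj_iff_cycleType_eq.2 (r5_type.trans hx.symm))
    obtain ⟨r, w, hr, hw, hrel⟩ := conj_rel σ r5_sign w5_sign rel5
    have hrx : r = x := Subtype.ext (hr.trans hσ)
    subst hrx
    obtain ⟨W, hW⟩ := ad_surjective (φ w)
    have ho : orderOf r = 5 := by rw [N7.Sc.ord7, hx]; decide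
    have hr5 : r ^ 5 = 1 := by rw [← ho]; exact pow_orderOf_eq_one r
    have hr1 : r ≠ 1 := by
      rintro rfl
      rw [orderOf_one] at ho
      omega
    obtain ⟨R, hR, hRk, hR1, hWR⟩ := lift_rel hφ (k := 5) (by decide) hr5 hr1 hrel hW
    obtain ⟨e1, e2, -⟩ := five_L h5 hRk hR1 hWR
    refine ⟨fun X hX hX5 => ?_, ?_⟩
    · rw [odd_unique (k := 5) (by decide) (hX.trans hR.symm) hX5 hRk, e1]
    · rw [← e2, L_eq, hR]
  · intro z hz
    obtain ⟨σ, hσ⟩ := isConj_iff.1 (isConj_iff_cycleType_eq.2 (r7_type.trans hz.symm))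
    obtain ⟨r, w, hr, hw, hrel⟩ := conj_rel σ r7_sign w7_sign rel7
    have hrz : r = z := Subtype.ext (hr.trans hσ)
    subst hrz
    obtain ⟨W, hW⟩ := ad_surjective (φ w)
    have ho : orderOf r = 7 := by rw [N7.Sc.ord7, hz]; decide
    have hr7 : r ^ 7 = 1 := orderOf_dvd_iff_pow_eq_one.1 ho.dvd
    have hr1 : r ≠ 1 := by
      rintro rfl
      rw [orderOf_one] at ho
      omega
    obtain ⟨R, hR, hRk, hR1, hWR⟩ := lift_rel hφ (k := 7) (by decide) hr7 hr1 hrel hW
    have e := seven_L h7 hRk hR1 hWR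
    rw [L_eq, hR] at e
    omega
  · intro x y hx hy
    obtain ⟨σ, hσ⟩ := isConj_iff.1 (isConj_iff_cycleType_eq.2 (w5_type.trans hy.symm))
    obtain ⟨r, w, hr, hw, hrel⟩ := conj_rel σ r5_sign w5_sign rel5
    have hwy : w = y := Subtype.ext (hw.trans hσ)
    subst hwy
    obtain ⟨W, hW⟩ := ad_surjective (φ w)
    have hrt : (r : Perm (Fin 7)).cycleType = {5} := by rw [hr, cycleType_conj, r5_type]
    have ho : orderOf r = 5 := by rw [N7.Sc.ord7, hrt]; decide
    have hr5 : r ^ 5 = 1 := by rw [← ho]; exact pow_orderOf_eq_one r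
    have hr1 : r ≠ 1 := by
      rintro rfl
      rw [orderOf_one] at ho
      omega
    obtain ⟨R, hR, hRk, hR1, hWR⟩ := lift_rel hφ (k := 5) (by decide) hr5 hr1 hrel hW
    have hwt : ((w * w : ↥(alternatingGroup (Fin 7))) : Perm (Fin 7)).cycleType = {2, 2} := by
      have e1 : ((w * w : ↥(alternatingGroup (Fin 7))) : Perm (Fin 7)) = σ * (w5 * w5) * σ⁻¹ := by
        show (w : Perm (Fin 7)) * (w : Perm (Fin 7)) = _
        rw [hw]
        group
      rw [e1, cycleType_conj, w5_sq_type]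
    have hW4 : V F (W ^ 4) = -1 := by
      have e1 := hc.sq (by norm_num) hφ hwt (x := W * W) (by rw [map_mul, hW, map_mul])
      have e2 : W ^ 4 = W * W * (W * W) := by simp only [pow_succ, pow_zero, one_mul, mul_assoc]
      rw [e2]
      exact e1
    have e := eight_five h2 h5 hW4 hRk hR1 hWR
    obtain ⟨c, hcx⟩ := conj_dt (by norm_num) hwt hx
    have e2 : ev (LK F (φ x)) 1 = ev (L F (W ^ 2)) 1 := by
      rw [L_eq, map_pow, hW, ← hcx]
      simp only [map_mul, map_inv]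
      have := ev_conj (LK F) (φ c) (φ w * φ w) 1
      simp only [map_mul] at this
      rw [this, pow_two, map_mul]
    rw [L_eq, hW, ← e2] at e
    omega

/-- **reduction**: there are no fixed points on the adjoint module; `hH` is supplied by helper23's theorem -/
theorem sev3c_of {φ : ↥(alternatingGroup (Fin 7)) →* ↥(chevE7.group F)} (hφ : Function.Injective φ) (hc : Cover φ)
    (h3 : (3 : F) = 0) (hinv : Representation.invariants (MonoidHom.comp (LK F) φ) = ⊥)
    (hH : ∀ x y z : ↥(alternatingGroup (Fin 7)), orderOf x = 5 → orderOf y = 4 → orderOf z = 7 →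
      ev (LK F (φ y)) 1 = ev (LK F (φ x)) 1 → 133 < 3 * ev (LK F (φ y)) 1 + 2 * ev (LK F (φ z)) 1 → False) : False := by
  have h2 : (2 : F) ≠ 0 := by
    intro h2
    have h1 : (1 : F) = 0 := by linear_combination h3 - h2
    exact one_ne_zero h1
  have h5 : (5 : F) ≠ 0 := by
    intro h5
    have h1 : (1 : F) = 0 := by linear_combination 2 * h3 - h5
    exact one_ne_zero h1
  have h7 : (7 : F) ≠ 0 := by
    intro h7
    have h1 : (1 : F) = 0 := by linear_combination h7 - 2 * h3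
    exact one_ne_zero h1
  obtain ⟨a5, a7, a24⟩ := rows hφ hc h2 h5 h7
  obtain ⟨x, y, hgen, hx, hy, hz, -, hy4, hz7⟩ := N7.Sc.triple7
  have hs := Cfsg.Agent.H952.F4.Scott.scott_form (MonoidHom.comp (LK F) φ) (x := x) (y := y) hgen (kf F)
    (fun v hv => kf_nondeg h2 fun w => by rw [kf_comm]; exact hv w) (fun g v w => by
      obtain ⟨g', hg'⟩ := ad_surjective (φ g)
      have := kf_L g' v w
      rw [L_eq, hg'] at this
      exact this)
  rw [finrank_L, hinv, finrank_bot, mul_zero, add_zero] at hs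
  have hs' : ev (LK F (φ x)) 1 + ev (LK F (φ y)) 1 + ev (LK F (φ (x * y))) 1 ≤ 133 := hs
  have e7 := a7 _ hz
  have e24 := a24 x y hx hy
  have h63 : ev (LK F (φ y)) 1 = 33 := by omega
  let t : ↥(alternatingGroup (Fin 7)) := ⟨r5, mem_alternatingGroup.2 r5_sign⟩
  have ht : orderOf t = 5 := by
    rw [N7.Sc.ord7]
    show r5.cycleType.lcm = 5
    rw [r5_type]
    decide
  have e5 := (a5 t r5_type).2
  exact hH t y (x * y) ht hy4 hz7 (h63.trans e5.symm) (by omega)

end Cfsg.Agent.R2.T1.N7C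
end
end
end
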